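import Mathlib
import Cfsg.Agent.PermB.ZassKernel
import Cfsg.Agent.PermB.ZassPrelude

/-!
# Kernels and two point stabilisers of Zassenhaus groups
-/

set_option autoImplicit false

namespace Cfsg.Agent.CharDeep

open MulAction

variable {G α : Type*} [Group G] [MulAction G α] [Finite α]

theorem isKernel_of_hyp [Finite G] (hz : PermB.ZData G α) (h3 : 3 ≤ Nat.card α) {a : α}
    {H : Subgroup G} (hle : H ≤ stabilizer G a) (hcard : Nat.card H + 1 = Nat.card α)
    (hfix : ∀ u ∈ H, u ≠ 1 → ∀ c : α, u • c = c → c = a) :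
    PermB.IsKernel H a := by
  classical
  obtain ⟨b, hb, -⟩ := PermB.exists_ne_ne h3 a a
  have hreg : ∀ y z : α, y ≠ a → z ≠ a → ∃! u : H, (u : G) • y = z := by
    intro y z hy hzne
    let f : H → {x : α // x ≠ a} := fun u => ⟨(u : G) • y, fun e =>
      hy (MulAction.injective (u : G) (e.trans (hle u.2).symm))⟩
    have hf : Function.Injective f := by
      intro u v e
      have e' : (u : G) • y = (v : G) • y := congrArg Subtype.val e
      by_contra hne
      refine hy (hfix _ (H.mul_mem (H.inv_mem v.2) u.2) (fun h => hne ?_) y ?_)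
      · exact Subtype.ext (inv_mul_eq_one.1 h).symm
      · rw [mul_smul, e', inv_smul_smul]
    have hbij : Function.Bijective f := by
      rw [Nat.bijective_iff_injective_and_card]
      refine ⟨hf, ?_⟩
      haveI : Fintype α := Fintype.ofFinite α
      rw [Nat.card_eq_fintype_card (α := {x : α // x ≠ a}), Fintype.card_subtype_compl,
        Fintype.card_subtype_eq, ← Nat.card_eq_fintype_card, ← hcard]
      omega
    obtain ⟨u, hu⟩ := hbij.2 ⟨z, hzne⟩
    exact ⟨u, congrArg Subtype.val hu, fun w hw => hf (Subtype.ext (hw.trans (congrArg Subtype.val hu).symm))⟩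
  have hsub : (H : Set G) ⊆ PermB.ZData.frobSet a := fun u hu => by
    refine ⟨hle hu, ?_⟩
    by_cases h : u = 1
    · exact Or.inl h
    · exact Or.inr fun y hy e => hy (hfix u hu h y e)
  have heq : (H : Set G) = PermB.ZData.frobSet a := by
    refine Set.eq_of_subset_of_ncard_le hsub ?_ (Set.toFinite _)
    rw [hz.ncard_frobSet hb.symm, ← Nat.card_coe_set_eq]
    show Nat.card α - 1 ≤ Nat.card H
    omega
  refine ⟨hle, fun g hg u hu => ?_, hreg⟩
  have hga : g • a = a := hg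
  have hgia : g⁻¹ • a = a := inv_smul_eq_iff.2 hga.symm
  rw [← SetLike.mem_coe, heq] at hu ⊢
  obtain ⟨hua, hu'⟩ := hu
  refine ⟨by rw [mul_smul, mul_smul, hgia, hua, hga], ?_⟩
  rcases hu' with rfl | h
  · left; group
  · right
    intro y hy e
    rw [mul_smul, mul_smul, smul_eq_iff_eq_inv_smul] at e
    exact h _ (fun e' => hy (by rw [inv_smul_eq_iff] at e'; exact e'.trans hga)) e

theorem nontrivial_H2 (hz : PermB.ZData G α) {g : G} {c d : α} (hg : g ≠ 1) (hcd : c ≠ d)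
    (hc : g • c = c) (hd : g • d = d) {a b : α} (hab : a ≠ b) :
    ∃ x ∈ PermB.ZData.H2 (G := G) a b, x ≠ 1 := by
  obtain ⟨k, hka, hkb⟩ := hz.two hcd hab
  refine ⟨k * g * k⁻¹, PermB.ZData.mem_H2.2 ⟨?_, ?_⟩, fun h => hg ?_⟩
  · rw [← hka, mul_smul, inv_smul_smul, mul_smul, hc]
  · rw [← hkb, mul_smul, inv_smul_smul, mul_smul, hd]
  · exact conj_eq_one_iff.1 h

/-- The pair is preserved by anything moving a non-identity element of its stabiliser into it. -/
theorem swap_or_fix (hz : PermB.ZData G α) {a b : α} (hab : a ≠ b) {g x : G}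
    (hx : x ∈ PermB.ZData.H2 (G := G) a b) (hx1 : x ≠ 1)
    (hgx : g * x * g⁻¹ ∈ PermB.ZData.H2 (G := G) a b) :
    (g • a = a ∧ g • b = b) ∨ (g • a = b ∧ g • b = a) := by
  have key : ∀ c, x • c = c → g • c = a ∨ g • c = b := by
    intro c hc
    by_contra h
    push Not at h
    have h1 := PermB.ZData.mem_H2.1 hgx
    have h2 : (g * x * g⁻¹) • (g • c) = g • c := by
      rw [mul_smul, inv_smul_smul, mul_smul, hc]
    exact hx1 (conj_eq_one_iff.1
      (hz.three _ hab (Ne.symm h.2) (Ne.symm h.1) h1.1 h1.2 h2))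
  have hne : g • a ≠ g • b := fun e => hab (MulAction.injective g e)
  rcases key a hx.1 with h1 | h1 <;> rcases key b hx.2 with h2 | h2
  · exact absurd (h1.trans h2.symm) hne
  · exact Or.inl ⟨h1, h2⟩
  · exact Or.inr ⟨h1, h2⟩
  · exact absurd (h1.trans h2.symm) hne

theorem conj_mem_H2 {a b : α} {g : G}
    (h : (g • a = a ∧ g • b = b) ∨ (g • a = b ∧ g • b = a)) {x : G}
    (hx : x ∈ PermB.ZData.H2 (G := G) a b) : g * x * g⁻¹ ∈ PermB.ZData.H2 (G := G) a b := by
  obtain ⟨xa, xb⟩ := PermB.ZData.mem_H2.1 hx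
  rcases h with ⟨h1, h2⟩ | ⟨h1, h2⟩
  · refine PermB.ZData.mem_H2.2 ⟨?_, ?_⟩
    · rw [mul_smul, inv_smul_eq_iff.2 h1.symm, mul_smul, xa, h1]
    · rw [mul_smul, inv_smul_eq_iff.2 h2.symm, mul_smul, xb, h2]
  · refine PermB.ZData.mem_H2.2 ⟨?_, ?_⟩
    · rw [mul_smul, inv_smul_eq_iff.2 h2.symm, mul_smul, xb, h2]
    · rw [mul_smul, inv_smul_eq_iff.2 h1.symm, mul_smul, xa, h1]

theorem mem_normalizer_H2_iff [Finite G] (hz : PermB.ZData G α) {a b : α} (hab : a ≠ b) {x : G}
    (hx : x ∈ PermB.ZData.H2 (G := G) a b) (hx1 : x ≠ 1) (g : G) :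
    g ∈ Subgroup.normalizer ((PermB.ZData.H2 (G := G) a b : Subgroup G) : Set G) ↔
      ((g • a = a ∧ g • b = b) ∨ (g • a = b ∧ g • b = a)) := by
  constructor
  · intro hg
    exact swap_or_fix hz hab hx hx1 ((Subgroup.mem_normalizer_iff.1 hg x).1 hx)
  · intro h
    rw [Subgroup.mem_normalizer_iff]
    refine fun y => ⟨fun hy => conj_mem_H2 h hy, fun hy => ?_⟩
    have h' : (g⁻¹ • a = a ∧ g⁻¹ • b = b) ∨ (g⁻¹ • a = b ∧ g⁻¹ • b = a) := by
      rcases h with ⟨h1, h2⟩ | ⟨h1, h2⟩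
      · exact Or.inl ⟨inv_smul_eq_iff.2 h1.symm, inv_smul_eq_iff.2 h2.symm⟩
      · exact Or.inr ⟨inv_smul_eq_iff.2 h2.symm, inv_smul_eq_iff.2 h1.symm⟩
    simpa [mul_assoc] using conj_mem_H2 h' hy

end Cfsg.Agent.CharDeep
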