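import Mathlib
import Cfsg.Agent.CharDeep.Zass

/-!
Fixed points and involutions of Zassenhaus groups with two point stabilisers of odd order.
-/

set_option autoImplicit false
set_option linter.unusedSectionVars false

namespace Cfsg.Agent.CharDeep.ZC

open MulAction Finset
open scoped Classical

variable {G α : Type*} [Group G] [MulAction G α] [Fintype G] [Fintype α]

open PermB (ZData)

/-- The fixed points of an element. -/
noncomputable def fixF (g : G) : Finset α := univ.filter fun c => g • c = c

theorem mem_fixF {g : G} {c : α} : c ∈ fixF g ↔ g • c = c := by simp [fixF]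

theorem card_fixF_le (hz : ZData G α) {g : G} (hg : g ≠ 1) : (fixF (α := α) g).card ≤ 2 := by
  by_contra h
  push Not at h
  obtain ⟨x, y, z, hx, hy, hzm, hxy, hxz, hyz⟩ := Finset.two_lt_card_iff.1 h
  exact hg (hz.three g hxy hyz hxz (mem_fixF.1 hx) (mem_fixF.1 hy) (mem_fixF.1 hzm))

theorem fixF_one : fixF (α := α) (1 : G) = univ := by ext c; simp [fixF]

theorem sum_card_fixF (hz : ZData G α) {a b : α} (hab : a ≠ b) :
    ∑ g : G, (fixF (α := α) g).card = Nat.card G := by
  haveI := hz.isPretransitive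
  have e1 := Finset.sum_card_bipartiteAbove_eq_sum_card_bipartiteBelow (s := (univ : Finset G))
    (t := (univ : Finset α)) (r := fun g c => g • c = c)
  simp only [Finset.bipartiteAbove, Finset.bipartiteBelow] at e1
  rw [show ∑ g : G, (fixF (α := α) g).card = _ from e1]
  have : ∀ c : α, (univ.filter fun g : G => g • c = c).card =
      (Nat.card α - 1) * Nat.card (ZData.H2 (G := G) a b) := by
    intro c
    obtain ⟨d, hd, -⟩ : ∃ d, d ≠ c ∧ True := by
      by_cases h : c = a
      · exact ⟨b, h ▸ hab.symm, trivial⟩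
      · exact ⟨a, Ne.symm h, trivial⟩
    rw [← hz.card_H2_eq hab hd.symm, ← hz.card_stabilizer hd.symm, Nat.card_eq_fintype_card,
      Fintype.card_subtype]
    simp [mem_stabilizer_iff]
  rw [Finset.sum_congr rfl fun c _ => this c, Finset.sum_const, Finset.card_univ, smul_eq_mul,
    ← Nat.card_eq_fintype_card, hz.card_group hab]

theorem sum_offDiag_fixF (hz : ZData G α) {a b : α} (hab : a ≠ b) :
    ∑ g : G, (fixF (α := α) g).offDiag.card = Nat.card G := by
  have e1 := Finset.sum_card_bipartiteAbove_eq_sum_card_bipartiteBelow (s := (univ : Finset G))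
    (t := (univ : Finset α).offDiag) (r := fun g p => g • p.1 = p.1 ∧ g • p.2 = p.2)
  simp only [Finset.bipartiteAbove, Finset.bipartiteBelow] at e1
  have e0 : ∀ g : G, (fixF (α := α) g).offDiag =
      (univ : Finset α).offDiag.filter fun p => g • p.1 = p.1 ∧ g • p.2 = p.2 := by
    intro g; ext p; simp [fixF]; tauto
  rw [Finset.sum_congr rfl fun g _ => congrArg Finset.card (e0 g), e1]
  have : ∀ p ∈ (univ : Finset α).offDiag,
      (univ.filter fun g : G => g • p.1 = p.1 ∧ g • p.2 = p.2).card =
      Nat.card (ZData.H2 (G := G) a b) := by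
    intro p hp
    rw [← hz.card_H2_eq hab (Finset.mem_offDiag.1 hp).2.2, Nat.card_eq_fintype_card,
      Fintype.card_subtype]
    simp [Subgroup.mem_inf, mem_stabilizer_iff]
  rw [Finset.sum_congr rfl this, Finset.sum_const, Finset.offDiag_card, Finset.card_univ,
    smul_eq_mul, ← Nat.card_eq_fintype_card, hz.card_group hab, ← mul_assoc]
  obtain ⟨n, hn⟩ : ∃ n, Nat.card α = n + 1 :=
    ⟨Nat.card α - 1, by haveI : Nonempty α := ⟨a⟩; have := Nat.card_pos (α := α); omega⟩
  rw [hn, Nat.add_sub_cancel, show (n + 1) * (n + 1) - (n + 1) = (n + 1) * n by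
    rw [Nat.mul_succ, Nat.add_sub_cancel]]

/-- Twice the number of fixed point free elements. -/
theorem two_mul_card_fpf (hz : ZData G α) {a b : α} (hab : a ≠ b) {h : ℕ}
    (hh : Nat.card α = h + 1) :
    2 * (univ.filter fun g : G => fixF (α := α) g = ∅).card + h * (h - 1) = Nat.card G := by
  have hkey : ∀ g : G, (2 * (if fixF (α := α) g = ∅ then 1 else 0) : ℤ)
      + (if g = 1 then ((h * (h - 1) : ℕ) : ℤ) else 0)
      = 2 - 2 * ((fixF (α := α) g).card : ℤ) + ((fixF (α := α) g).offDiag.card : ℤ) := by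
    intro g
    by_cases hg : g = 1
    · subst hg
      have hne : (univ : Finset α) ≠ ∅ := (Finset.univ_nonempty_iff.2 ⟨a⟩).ne_empty
      rw [fixF_one, if_neg hne, if_pos rfl, Finset.offDiag_card, Finset.card_univ,
        ← Nat.card_eq_fintype_card, hh, Nat.cast_sub (Nat.le_mul_self _)]
      rcases Nat.eq_zero_or_pos h with rfl | hp
      · simp
      · push_cast [Nat.cast_sub (show 1 ≤ h from hp)]; ring
    · rw [if_neg hg, Finset.offDiag_card, Nat.cast_sub (Nat.le_mul_self _)]
      have h2 := card_fixF_le hz (α := α) hg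
      by_cases h0 : fixF (α := α) g = ∅
      · simp [h0]
      · rw [if_neg h0]
        have h1 : 0 < (fixF (α := α) g).card := Finset.card_pos.2 (Finset.nonempty_of_ne_empty h0)
        rcases (show (fixF (α := α) g).card = 1 ∨ (fixF (α := α) g).card = 2 by omega) with e | e <;>
          rw [e] <;> simp
  have hs : ∑ g : G, ((2 * (if fixF (α := α) g = ∅ then 1 else 0) : ℤ)
      + (if g = 1 then ((h * (h - 1) : ℕ) : ℤ) else 0)) =
      ∑ g : G, (2 - 2 * ((fixF (α := α) g).card : ℤ) + ((fixF (α := α) g).offDiag.card : ℤ)) :=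
    Finset.sum_congr rfl fun g _ => hkey g
  rw [Finset.sum_add_distrib, ← Finset.mul_sum, Finset.sum_boole, Finset.sum_ite_eq',
    if_pos (Finset.mem_univ _), Finset.sum_add_distrib, Finset.sum_sub_distrib, ← Finset.mul_sum,
    ← Nat.cast_sum, ← Nat.cast_sum, sum_card_fixF hz hab, sum_offDiag_fixF hz hab, Finset.sum_const,
    Finset.card_univ, ← Nat.card_eq_fintype_card] at hs
  simp only [nsmul_eq_mul] at hs
  omega

/-- The involutions. -/
noncomputable def invol : Finset G := univ.filter fun t => orderOf t = 2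

theorem mem_invol {t : G} : t ∈ invol (G := G) ↔ t * t = 1 ∧ t ≠ 1 := by
  simp only [invol, Finset.mem_filter, Finset.mem_univ, true_and, orderOf_eq_prime_iff, sq]

/-- The elements interchanging two given points are involutions. -/
def SwapInvol (G α : Type*) [Group G] [MulAction G α] : Prop :=
  ∀ ⦃g : G⦄ ⦃p q : α⦄, p ≠ q → g • p = q → g • q = p → g * g = 1

section odd

variable (hz : ZData G α) {a b : α} (hab : a ≠ b)
  (hodd : Odd (Nat.card (ZData.H2 (G := G) a b)))

include hz hab hodd in
theorem card_fixF_invol {t : G} (ht : t ∈ invol (G := G)) :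
    (fixF (α := α) t).card = if Odd (Nat.card α) then 1 else 0 := by
  obtain ⟨htt, ht1⟩ := mem_invol.1 ht
  obtain ⟨-, hpar⟩ := hz.card_fixedBy_involution htt ht1
  have he : Nat.card (fixedBy α t) = (fixF (α := α) t).card := by
    rw [Nat.card_eq_fintype_card, Fintype.card_subtype]; congr 1
  rw [he] at hpar
  have h2 := card_fixF_le hz (α := α) ht1
  have hne2 : (fixF (α := α) t).card ≠ 2 := by
    intro e
    obtain ⟨x, y, hxy, hxy'⟩ := Finset.card_eq_two.1 e
    have hx : t • x = x := mem_fixF.1 (hxy' ▸ Finset.mem_insert_self _ _)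
    have hy : t • y = y :=
      mem_fixF.1 (hxy' ▸ Finset.mem_insert_of_mem (Finset.mem_singleton_self _))
    have hdvd : orderOf t ∣ Nat.card (ZData.H2 (G := G) a b) := by
      rw [← hz.card_H2_eq hab hxy]
      exact Subgroup.orderOf_dvd_natCard _ (PermB.ZData.mem_H2.2 ⟨hx, hy⟩)
    rw [orderOf_eq_prime (p := 2) (by rw [sq, htt]) ht1] at hdvd
    exact Nat.not_even_iff_odd.2 hodd (even_iff_two_dvd.2 hdvd)
  split_ifs with hp
  · rw [Nat.odd_iff] at hp; omega
  · rw [Nat.not_odd_iff_even, Nat.even_iff] at hp; omega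

variable (hsw : SwapInvol G α)

include hz hab hsw in
theorem card_swappers {p q : α} (hpq : p ≠ q) :
    ((invol (G := G)).filter fun t => t • p = q).card = Nat.card (ZData.H2 (G := G) a b) := by
  obtain ⟨s, hs, hsp, hsq⟩ := hz.exists_involution_swap hpq
  rw [← hz.card_H2_eq hab hpq, Nat.card_eq_fintype_card, Fintype.card_subtype]
  refine Finset.card_bij' (fun t _ => s⁻¹ * t) (fun x _ => s * x) ?_ ?_ ?_ ?_
  · intro t ht
    obtain ⟨ht2, htp⟩ := Finset.mem_filter.1 ht
    have htq : t • q = p := by rw [← htp, ← mul_smul, (mem_invol.1 ht2).1, one_smul]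
    simp only [Finset.mem_filter, Finset.mem_univ, true_and, Subgroup.mem_inf, mem_stabilizer_iff,
      mul_smul, htp, htq, inv_smul_eq_iff, hsp, hsq, and_self]
  · intro x hx
    simp only [Finset.mem_filter, Finset.mem_univ, true_and, Subgroup.mem_inf,
      mem_stabilizer_iff] at hx
    have h1 : (s * x) • p = q := by rw [mul_smul, hx.1, hsp]
    refine Finset.mem_filter.2 ⟨mem_invol.2 ⟨hsw hpq h1 (by rw [mul_smul, hx.2, hsq]), fun e => ?_⟩, h1⟩
    rw [e, one_smul] at h1; exact hpq h1
  · intro t _; group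
  · intro x _; group

include hz hab hodd hsw in
theorem card_invol {h : ℕ} (hh : Nat.card α = h + 1) :
    (invol (G := G)).card = if Even h then Nat.card (ZData.H2 (G := G) a b) * (h + 1)
      else Nat.card (ZData.H2 (G := G) a b) * h := by
  set e := Nat.card (ZData.H2 (G := G) a b) with he
  have e1 := Finset.sum_card_bipartiteAbove_eq_sum_card_bipartiteBelow (s := (invol (G := G)))
    (t := (univ : Finset α).offDiag) (r := fun t p => t • p.1 = p.2)
  simp only [Finset.bipartiteAbove, Finset.bipartiteBelow] at e1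
  have hr : ∀ p ∈ (univ : Finset α).offDiag,
      ((invol (G := G)).filter fun t => t • p.1 = p.2).card = e := fun p hp =>
    card_swappers hz hab hsw (Finset.mem_offDiag.1 hp).2.2
  have hl : ∀ t ∈ invol (G := G), ((univ : Finset α).offDiag.filter fun p => t • p.1 = p.2).card =
      Nat.card α - if Odd (Nat.card α) then 1 else 0 := by
    intro t ht
    rw [← card_fixF_invol hz hab hodd ht, Nat.card_eq_fintype_card, ← Finset.card_univ,
      ← Finset.card_sdiff_of_subset (Finset.subset_univ _)]
    refine Finset.card_bij' (fun p _ => p.1) (fun x _ => (x, t • x)) ?_ ?_ ?_ ?_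
    · intro p hp
      simp only [Finset.mem_filter, Finset.mem_offDiag, Finset.mem_univ, true_and] at hp
      simp only [Finset.mem_sdiff, Finset.mem_univ, true_and, mem_fixF]
      exact fun e => hp.1 (e.symm.trans hp.2)
    · intro x hx
      simp only [Finset.mem_sdiff, Finset.mem_univ, true_and, mem_fixF] at hx
      simpa using Ne.symm hx
    · intro p hp
      simp only [Finset.mem_filter] at hp
      exact Prod.ext rfl hp.2
    · intro x _; rfl
  rw [Finset.sum_congr rfl hr, Finset.sum_congr rfl hl, Finset.sum_const, Finset.sum_const,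
    Finset.offDiag_card, Finset.card_univ, smul_eq_mul, smul_eq_mul, ← Nat.card_eq_fintype_card,
    hh, show (h + 1) * (h + 1) - (h + 1) = (h + 1) * h by
      rw [Nat.mul_succ, Nat.add_sub_cancel]] at e1
  have hpos : 0 < h := by
    haveI : Nontrivial α := ⟨a, b, hab⟩
    have := Finite.one_lt_card (α := α)
    omega
  by_cases hev : Even h
  · rw [if_pos hev]
    rw [if_pos (Even.add_one hev), Nat.add_sub_cancel] at e1
    exact Nat.eq_of_mul_eq_mul_right hpos (e1.trans (by ring))
  · rw [if_neg hev]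
    rw [if_neg (by rw [Nat.not_odd_iff_even, Nat.even_add_one]; exact hev), Nat.sub_zero] at e1
    exact Nat.eq_of_mul_eq_mul_right (Nat.succ_pos h) (e1.trans (by rw [Nat.succ_eq_add_one]; ring))

include hz hab hodd hsw in
/-- All involutions are conjugate. -/
theorem isConj_invol {x y : G} (hx : x ∈ invol (G := G)) (hy : y ∈ invol (G := G)) : IsConj x y := by
  obtain ⟨v, hv, hva, hvb⟩ := hz.exists_involution_swap hab
  have hvv := hsw hab hva hvb
  suffices key : ∀ t ∈ invol (G := G), IsConj t v from (key x hx).trans (key y hy).symm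
  intro t ht
  obtain ⟨htt, ht1⟩ := mem_invol.1 ht
  obtain ⟨p, hp⟩ : ∃ p : α, t • p ≠ p := by
    by_contra hne
    push Not at hne
    exact ht1 (hz.faithful t hne)
  obtain ⟨g, hga, hgb⟩ := hz.two (Ne.symm hp) hab
  set t' := g * t * g⁻¹ with ht'
  have ha' : t' • a = b := by rw [ht', ← hga, mul_smul, inv_smul_smul, mul_smul, hgb]
  have hb' : t' • b = a := by
    rw [ht', ← hgb, mul_smul, inv_smul_smul, mul_smul, ← mul_smul t t, htt, one_smul, hga]
  set x' := v⁻¹ * t' with hx'
  have hx'E : x' ∈ ZData.H2 (G := G) a b := PermB.ZData.mem_H2.2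
    ⟨by rw [hx', mul_smul, ha', inv_smul_eq_iff, hva], by rw [hx', mul_smul, hb', inv_smul_eq_iff, hvb]⟩
  have hinv : ∀ z ∈ ZData.H2 (G := G) a b, v * z = z⁻¹ * v := by
    intro z hzE
    obtain ⟨za, zb⟩ := PermB.ZData.mem_H2.1 hzE
    have h1 := hsw hab (g := v * z) (by rw [mul_smul, za, hva]) (by rw [mul_smul, zb, hvb])
    calc v * z = z⁻¹ * (z * (v * z * (v * z))) * z⁻¹ * v⁻¹ := by group
      _ = z⁻¹ * v := by rw [h1, mul_one, inv_eq_of_mul_eq_one_right hvv]; group
  obtain ⟨k, hk⟩ := hodd
  set y' := x' ^ (k + 1) with hy'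
  have hy2 : y' * y' = x' := by
    have h1 : x' ^ Nat.card (ZData.H2 (G := G) a b) = 1 := by
      rw [← orderOf_dvd_iff_pow_eq_one]; exact Subgroup.orderOf_dvd_natCard _ hx'E
    rw [hk] at h1
    rw [hy', ← pow_add, show k + 1 + (k + 1) = 2 * k + 1 + 1 by ring, pow_succ, h1, one_mul]
  refine (isConj_iff.2 ⟨g, rfl⟩ : IsConj t t').trans (isConj_iff.2 ⟨y', ?_⟩)
  have hy'E : y' ∈ ZData.H2 (G := G) a b := pow_mem hx'E _
  have h1 : y' * v = v * y'⁻¹ := by rw [hinv _ (inv_mem hy'E), inv_inv]
  calc y' * t' * y'⁻¹ = (y' * v) * x' * y'⁻¹ := by rw [hx']; group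
    _ = v * (y'⁻¹ * x' * y'⁻¹) := by rw [h1]; group
    _ = v := by rw [← hy2]; group

variable {N : Subgroup G} (hN : PermB.IsKernel N a)

include hz hab hodd hN in
theorem invol_mem_kernel {h : ℕ} (hh : Nat.card α = h + 1) (hev : Even h) {t : G}
    (ht : t ∈ invol (G := G)) (hta : t • a = a) : t ∈ N := by
  have h1 := card_fixF_invol hz hab hodd ht
  rw [hh, if_pos (Even.add_one hev)] at h1
  refine (hz.mem_kernel_iff hN hab).2 ⟨hta, Or.inr fun y hy e => hy ?_⟩
  exact Finset.card_le_one.1 h1.le y (mem_fixF.2 e) a (mem_fixF.2 hta)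

include hz hab hodd hsw in
theorem card_invol_fix {h : ℕ} (hh : Nat.card α = h + 1) (hev : Even h) :
    ((invol (G := G)).filter fun t => t • a = a).card = Nat.card (ZData.H2 (G := G) a b) := by
  have e1 := Finset.sum_card_bipartiteAbove_eq_sum_card_bipartiteBelow (s := (invol (G := G)))
    (t := (univ : Finset α)) (r := fun t c => t • c = c)
  simp only [Finset.bipartiteAbove, Finset.bipartiteBelow] at e1
  haveI := hz.isPretransitive
  have hr : ∀ c ∈ (univ : Finset α), ((invol (G := G)).filter fun t => t • c = c).card =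
      ((invol (G := G)).filter fun t => t • a = a).card := by
    intro c _
    obtain ⟨g, hg⟩ := IsPretransitive.exists_smul_eq (M := G) a c
    refine Finset.card_bij' (fun t _ => g⁻¹ * t * g) (fun t _ => g * t * g⁻¹) ?_ ?_ ?_ ?_
    · intro t ht
      simp only [Finset.mem_filter, invol, Finset.mem_univ, true_and] at ht ⊢
      refine ⟨?_, by rw [mul_smul, mul_smul, hg, ht.2, ← hg, inv_smul_smul]⟩
      have := MulEquiv.orderOf_eq (MulAut.conj g⁻¹) t
      simpa [MulAut.conj_apply, inv_inv, ht.1] using this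
    · intro t ht
      simp only [Finset.mem_filter, invol, Finset.mem_univ, true_and] at ht ⊢
      refine ⟨?_, by rw [← hg, mul_smul, inv_smul_smul, mul_smul, ht.2]⟩
      have := MulEquiv.orderOf_eq (MulAut.conj g) t
      simpa [MulAut.conj_apply, ht.1] using this
    · intro t _; group
    · intro t _; group
  have hl : ∀ t ∈ invol (G := G), ((univ : Finset α).filter fun c => t • c = c).card = 1 := by
    intro t ht
    have h1 := card_fixF_invol hz hab hodd ht
    rw [hh, if_pos (Even.add_one hev)] at h1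
    exact h1
  rw [Finset.sum_congr rfl hr, Finset.sum_congr rfl hl, Finset.sum_const, Finset.sum_const,
    Finset.card_univ, smul_eq_mul, smul_eq_mul, mul_one, card_invol hz hab hodd hsw hh, if_pos hev,
    ← Nat.card_eq_fintype_card, hh, mul_comm _ (h + 1)] at e1
  exact (Nat.eq_of_mul_eq_mul_left (Nat.succ_pos h) e1).symm

include hz hab hodd hsw hN in
/-- Involutions of the kernel are central in it. -/
theorem invol_central {h : ℕ} (hh : Nat.card α = h + 1) (hev : Even h) {t : G}
    (ht : t ∈ invol (G := G)) (hta : t • a = a) {u : G} (hu : u ∈ N) : u * t = t * u := by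
  obtain ⟨htt, ht1⟩ := mem_invol.1 ht
  have hfix := card_fixF_invol hz hab hodd ht
  rw [hh, if_pos (Even.add_one hev)] at hfix
  have hfix' : ∀ c, t • c = c → c = a := fun c hc =>
    Finset.card_le_one.1 hfix.le c (mem_fixF.2 hc) a (mem_fixF.2 hta)
  set B : Finset G := univ.filter fun g => g • a = a
  set C : Finset G := B.filter fun g => g * t = t * g
  have hBcard : B.card = h * Nat.card (ZData.H2 (G := G) a b) := by
    rw [show h = Nat.card α - 1 by omega, ← hz.card_stabilizer hab, Nat.card_eq_fintype_card,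
      Fintype.card_subtype]
    simp [B, mem_stabilizer_iff]
  have hconj : ∀ g ∈ B, g * t * g⁻¹ ∈ (invol (G := G)).filter fun s => s • a = a := by
    intro g hg
    simp only [B, Finset.mem_filter, Finset.mem_univ, true_and] at hg
    refine Finset.mem_filter.2 ⟨mem_invol.2 ⟨?_, fun e => ht1 (conj_eq_one_iff.1 e)⟩, ?_⟩
    · rw [show g * t * g⁻¹ * (g * t * g⁻¹) = g * (t * t) * g⁻¹ by group, htt]; group
    · rw [mul_smul, inv_smul_eq_iff.2 hg.symm, mul_smul, hta, hg]
  have hfib : ∀ s ∈ (invol (G := G)).filter (fun s => s • a = a),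
      (B.filter fun g => g * t * g⁻¹ = s).card = C.card := by
    intro s hs
    obtain ⟨hs2, hsa⟩ := Finset.mem_filter.1 hs
    obtain ⟨c, hc⟩ := isConj_iff.1 (isConj_invol hz hab hodd hsw ht hs2)
    have hca : c • a = a := by
      have h1 : t • (c⁻¹ • a) = c⁻¹ • a := by
        rw [eq_inv_smul_iff, ← mul_smul, ← mul_smul, hc, hsa]
      exact (inv_smul_eq_iff.1 (hfix' _ h1)).symm
    have hcia : c⁻¹ • a = a := inv_smul_eq_iff.2 hca.symm
    refine Finset.card_bij' (fun g _ => c⁻¹ * g) (fun g _ => c * g) ?_ ?_ ?_ ?_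
    · intro g hg
      simp only [B, C, Finset.mem_filter, Finset.mem_univ, true_and] at hg ⊢
      refine ⟨by rw [mul_smul, hg.1, hcia], ?_⟩
      calc c⁻¹ * g * t = c⁻¹ * (g * t * g⁻¹) * g := by group
        _ = t * (c⁻¹ * g) := by rw [hg.2, ← hc]; group
    · intro g hg
      simp only [B, C, Finset.mem_filter, Finset.mem_univ, true_and] at hg ⊢
      refine ⟨by rw [mul_smul, hg.1, hca], ?_⟩
      calc c * g * t * (c * g)⁻¹ = c * (g * t) * g⁻¹ * c⁻¹ := by group
        _ = s := by rw [hg.2, ← hc]; group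
    · intro g _; group
    · intro g _; group
  have hcount := Finset.card_eq_sum_card_fiberwise (f := fun g => g * t * g⁻¹) (s := B) hconj
  rw [Finset.sum_congr rfl hfib, Finset.sum_const, smul_eq_mul,
    card_invol_fix hz hab hodd hsw hh hev, hBcard, mul_comm h] at hcount
  have hCcard := Nat.eq_of_mul_eq_mul_left Nat.card_pos hcount
  have hsub : C ⊆ univ.filter (fun g => g ∈ N) := by
    intro g hg
    simp only [B, C, Finset.mem_filter, Finset.mem_univ, true_and] at hg ⊢
    refine (hz.mem_kernel_iff hN hab).2 ⟨hg.1, or_iff_not_imp_left.2 fun hg1 y hy e => hg1 ?_⟩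
    refine hz.three g (Ne.symm hy) (fun e' => hy (hfix' y e'.symm)) ?_ hg.1 e ?_
    · exact fun e' => hy (MulAction.injective t (e'.symm.trans hta.symm))
    · rw [← mul_smul, hg.2, mul_smul, e]
  have hNcard : (univ.filter (fun g => g ∈ N)).card = h := by
    have h1 := hN.card_add_one hab.symm
    rw [Nat.card_eq_fintype_card, Fintype.card_subtype, hh] at h1
    omega
  have hEq := Finset.eq_of_subset_of_card_le hsub (by rw [hNcard, hCcard])
  have huC : u ∈ C := hEq ▸ Finset.mem_filter.2 ⟨Finset.mem_univ _, hu⟩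
  exact (Finset.mem_filter.1 huC).2

include hz hab hodd hsw hN in
/-- A strongly real element of the kernel is an involution. -/
theorem strongly_real_kernel {h : ℕ} (hh : Nat.card α = h + 1) {u x y : G} (hu : u ∈ N) (hu1 : u ≠ 1)
    (hx : x ∈ invol (G := G)) (hy : y ∈ invol (G := G)) (hxy : x * y = u) :
    u ∈ invol (G := G) ∧ x • a = a ∧ y • a = a ∧ Even h := by
  obtain ⟨hxx, hx1⟩ := mem_invol.1 hx
  obtain ⟨hyy, hy1⟩ := mem_invol.1 hy
  have hua : u • a = a := hN.le hu
  have hxa : x • a = a := by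
    by_contra hne
    refine hu1 (hN.eq_one hu hne ?_)
    have huinv : x * u * x⁻¹ = u⁻¹ := by
      rw [← hxy, mul_inv_rev, inv_eq_of_mul_eq_one_right hxx, inv_eq_of_mul_eq_one_right hyy,
        show x * (x * y) * x = (x * x) * y * x by group, hxx, one_mul]
    have h1 : u⁻¹ • (x • a) = x • a := by
      rw [← huinv, mul_smul, inv_smul_smul, mul_smul, hua]
    exact (inv_smul_eq_iff.1 h1).symm
  have hya : y • a = a := by
    have : y = x⁻¹ * u := by rw [← hxy]; group
    rw [this, mul_smul, hua, inv_smul_eq_iff, hxa]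
  have hev : Even h := by
    by_contra hev
    have h1 := card_fixF_invol hz hab hodd hx
    rw [hh, if_neg (by rw [Nat.not_odd_iff_even, Nat.even_add_one]; exact hev),
      Finset.card_eq_zero] at h1
    exact (Finset.notMem_empty a) (h1 ▸ mem_fixF.2 hxa)
  have hc := invol_central hz hab hodd hsw hN hh hev hx hxa
    (invol_mem_kernel hz hab hodd hN hh hev hy hya)
  refine ⟨mem_invol.2 ⟨?_, hu1⟩, hxa, hya, hev⟩
  rw [← hxy, show x * y * (x * y) = x * (y * x) * y by group, hc,
    show x * (x * y) * y = (x * x) * (y * y) by group, hxx, hyy, one_mul]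

end odd

end Cfsg.Agent.CharDeep.ZC
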