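import Mathlib
import Cfsg.Agent.CharDeep.ZassInvol
import Cfsg.Agent.Zassenhaus.Even

/-!
Conjugacy classes of fixed point free elements of Zassenhaus groups with odd two point stabilisers.
-/

set_option autoImplicit false
set_option linter.unusedSectionVars false

namespace Cfsg.Agent.CharDeep.ZC

open MulAction Finset
open scoped Classical

variable {G α : Type*} [Group G] [MulAction G α] [Fintype G] [Fintype α]

open PermB (ZData)

/-- In a simple Zassenhaus group the interchanging elements are involutions. -/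
theorem swapInvol_of_simple [IsSimpleGroup G] (hZ : Cfsg.IsZassenhausGroup G α) : SwapInvol G α := by
  intro g p q hpq hgp hgq
  obtain ⟨-, v, hv, hvp, hvq, hinv⟩ := Zassenhaus.isCyclic_H2 hZ hpq
  have hvv : v * v = 1 := by rw [← sq, ← hv, pow_orderOf_eq_one]
  set x := v⁻¹ * g with hx
  have hxE : x ∈ ZData.H2 (G := G) p q := PermB.ZData.mem_H2.2
    ⟨by rw [hx, mul_smul, hgp, inv_smul_eq_iff, hvp], by rw [hx, mul_smul, hgq, inv_smul_eq_iff, hvq]⟩
  have h1 := hinv x hxE
  calc g * g = (v * x * v⁻¹) * (v * v) * x := by rw [hx]; group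
    _ = 1 := by rw [h1, hvv, mul_one, inv_mul_cancel]

/-- The classes of fixed point free elements. -/
noncomputable def fpfClasses : Finset (ConjClasses G) :=
  (univ.filter fun g : G => fixF (α := α) g = ∅).image ConjClasses.mk

theorem mul_card_centralizer_class (g : G) :
    (univ.filter fun x : G => ConjClasses.mk x = ConjClasses.mk g).card *
      (univ.filter fun x : G => x * g = g * x).card = Nat.card G := by
  have h := Subgroup.index_mul_card (stabilizer (ConjAct G) g)
  rw [MulAction.index_stabilizer] at h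
  have e1 : (MulAction.orbit (ConjAct G) g).ncard =
      (univ.filter fun x : G => ConjClasses.mk x = ConjClasses.mk g).card := by
    rw [← Set.ncard_coe_finset]
    congr 1
    ext x
    simp only [Finset.coe_filter, Finset.mem_univ, true_and, Set.mem_setOf_eq,
      ConjAct.mem_orbit_conjAct, ConjClasses.mk_eq_mk_iff_isConj]
  have e2 : Nat.card (stabilizer (ConjAct G) g) =
      (univ.filter fun x : G => x * g = g * x).card := by
    rw [Nat.card_congr (Equiv.subtypeEquiv (p := fun c => c ∈ stabilizer (ConjAct G) g)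
      (q := fun x : G => x * g = g * x) ConjAct.ofConjAct.toEquiv fun c => ?_),
      Nat.card_eq_fintype_card, Fintype.card_subtype]
    rw [mem_stabilizer_iff, ConjAct.smul_def]
    exact mul_inv_eq_iff_eq_mul
  rw [e1, e2, Nat.card_congr ConjAct.ofConjAct.toEquiv] at h
  exact h

variable (hz : ZData G α) {a b : α} (hab : a ≠ b)
  (hodd : Odd (Nat.card (ZData.H2 (G := G) a b))) (hsw : SwapInvol G α)

include hz hab hodd hsw in
theorem card_fiber_two {g : G} (hg2 : (fixF (α := α) g).card = 2) (hg1 : g ≠ 1) :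
    ((invol (G := G)).filter fun x => x * g ∈ invol (G := G)).card ≤
      Nat.card (ZData.H2 (G := G) a b) := by
  obtain ⟨p, q, hpq, hfix⟩ := Finset.card_eq_two.1 hg2
  rw [← card_swappers hz hab hsw hpq]
  refine Finset.card_le_card fun x hx => ?_
  obtain ⟨hx2, hxg⟩ := Finset.mem_filter.1 hx
  refine Finset.mem_filter.2 ⟨hx2, ?_⟩
  obtain ⟨hxx, hx1⟩ := mem_invol.1 hx2
  have hinv : x * g * x⁻¹ = g⁻¹ := by
    rw [eq_inv_iff_mul_eq_one, inv_eq_of_mul_eq_one_right hxx,
      show x * g * x * g = x * g * (x * g) by group]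
    exact (mem_invol.1 hxg).1
  have hmap : ∀ c, g • c = c → x • c = p ∨ x • c = q := by
    intro c hc
    have : g • (x • c) = x • c := by
      have h1 : g⁻¹ • (x • c) = x • c := by rw [← hinv, mul_smul, inv_smul_smul, mul_smul, hc]
      exact (inv_smul_eq_iff.1 h1).symm
    have := mem_fixF.2 this
    rw [hfix] at this
    simpa using this
  have hp : g • p = p := mem_fixF.1 (hfix ▸ Finset.mem_insert_self _ _)
  have hq : g • q = q := mem_fixF.1 (hfix ▸ Finset.mem_insert_of_mem (Finset.mem_singleton_self _))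
  rcases hmap p hp with h | h
  · exfalso
    have hqx : x • q = q := (hmap q hq).resolve_left fun e =>
      hpq (MulAction.injective x (h.trans e.symm))
    have h1 := card_fixF_invol hz hab hodd hx2
    have h2 : ({p, q} : Finset α).card ≤ (fixF (α := α) x).card := Finset.card_le_card fun c hc => by
      rcases Finset.mem_insert.1 hc with rfl | hc
      · exact mem_fixF.2 h
      · rw [Finset.mem_singleton] at hc; subst hc; exact mem_fixF.2 hqx
    rw [Finset.card_pair hpq, h1] at h2
    split_ifs at h2 <;> omega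
  · exact h

theorem card_fiber_le_centralizer (g : G) :
    ((invol (G := G)).filter fun x => x * g ∈ invol (G := G)).card ≤
      (univ.filter fun x : G => x * g = g * x).card := by
  rcases ((invol (G := G)).filter fun x => x * g ∈ invol (G := G)).eq_empty_or_nonempty with he | ⟨x0, hx0⟩
  · rw [he]; simp
  have hinv : ∀ x ∈ (invol (G := G)).filter (fun x => x * g ∈ invol (G := G)),
      x * g = g⁻¹ * x ∧ x * x = 1 := by
    intro x hx
    obtain ⟨hx2, hxg⟩ := Finset.mem_filter.1 hx
    obtain ⟨hxx, -⟩ := mem_invol.1 hx2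
    refine ⟨?_, hxx⟩
    calc x * g = (x * g)⁻¹ := (inv_eq_of_mul_eq_one_right (mem_invol.1 hxg).1).symm
      _ = g⁻¹ * x := by rw [mul_inv_rev, inv_eq_of_mul_eq_one_right hxx]
  refine Finset.card_le_card_of_injOn (fun x => x0 * x) (fun x hx => ?_)
    (fun x _ y _ e => mul_left_cancel e)
  rw [Finset.mem_coe] at hx
  obtain ⟨h0, h00⟩ := hinv x0 hx0
  obtain ⟨h1, h11⟩ := hinv x hx
  simp only [Finset.coe_filter, Finset.mem_univ, true_and, Set.mem_setOf_eq]
  calc x0 * x * g = x0 * g⁻¹ * x := by rw [mul_assoc, h1, ← mul_assoc]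
    _ = x0 * g⁻¹ * (x0 * x0) * x := by rw [h00, mul_one]
    _ = x0 * (g⁻¹ * x0) * x0 * x := by group
    _ = x0 * (x0 * g) * x0 * x := by rw [h0]
    _ = g * (x0 * x) := by rw [← mul_assoc x0 x0, h00]; group

theorem sum_centralizer_fpf :
    ∑ g ∈ univ.filter (fun g : G => fixF (α := α) g = ∅), (univ.filter fun x : G => x * g = g * x).card
      = (fpfClasses (G := G) (α := α)).card * Nat.card G := by
  rw [← Finset.sum_fiberwise_of_maps_to (g := ConjClasses.mk) (t := fpfClasses (G := G) (α := α))
    (fun g hg => Finset.mem_image_of_mem _ hg)]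
  rw [Finset.sum_congr rfl (g := fun _ => Nat.card G) ?_, Finset.sum_const, smul_eq_mul]
  intro C hC
  obtain ⟨g, hg, rfl⟩ := Finset.mem_image.1 hC
  simp only [Finset.mem_filter, Finset.mem_univ, true_and] at hg
  have hclass : ((univ.filter fun x : G => fixF (α := α) x = ∅).filter
      fun x => ConjClasses.mk x = ConjClasses.mk g) =
      univ.filter fun x : G => ConjClasses.mk x = ConjClasses.mk g := by
    ext x
    simp only [Finset.mem_filter, Finset.mem_univ, true_and, and_iff_right_iff_imp]
    intro hx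
    obtain ⟨c, hc⟩ := isConj_iff.1 (ConjClasses.mk_eq_mk_iff_isConj.1 hx)
    rw [Finset.eq_empty_iff_forall_notMem]
    intro p hp
    refine (Finset.eq_empty_iff_forall_notMem.1 hg) (c • p) (mem_fixF.2 ?_)
    rw [← hc, mul_smul, inv_smul_smul, mul_smul, mem_fixF.1 hp]
  rw [hclass, ← mul_card_centralizer_class g, ← smul_eq_mul, ← Finset.sum_const]
  refine Finset.sum_congr rfl fun x hx => ?_
  simp only [Finset.mem_filter, Finset.mem_univ, true_and] at hx
  have h1 := mul_card_centralizer_class x
  rw [hx, ← mul_card_centralizer_class g] at h1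
  exact Nat.eq_of_mul_eq_mul_left (Finset.card_pos.2 ⟨g, by simp⟩) h1

variable {N : Subgroup G} (hN : PermB.IsKernel N a)

include hz hab hodd hsw hN in
theorem card_pairs_fix {h : ℕ} (hh : Nat.card α = h + 1) :
    ((invol (G := G) ×ˢ invol (G := G)).filter fun p => p.1 ≠ p.2 ∧ p.1 * p.2 ∈ N).card ≤
      if Even h then Nat.card (ZData.H2 (G := G) a b) * (Nat.card (ZData.H2 (G := G) a b) - 1) else 0 := by
  have hkey : ∀ p ∈ ((invol (G := G) ×ˢ invol (G := G)).filter fun p => p.1 ≠ p.2 ∧ p.1 * p.2 ∈ N),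
      Even h ∧ p.1 • a = a ∧ p.2 • a = a := by
    intro p hp
    obtain ⟨hp1, hne, hpN⟩ := Finset.mem_filter.1 hp
    obtain ⟨hx, hy⟩ := Finset.mem_product.1 hp1
    have hu1 : p.1 * p.2 ≠ 1 := fun e => hne (by
      rw [eq_inv_of_mul_eq_one_left e, inv_eq_of_mul_eq_one_right (mem_invol.1 hy).1])
    obtain ⟨-, h1, h2, h3⟩ := strongly_real_kernel hz hab hodd hsw hN hh hpN hu1 hx hy rfl
    exact ⟨h3, h1, h2⟩
  split_ifs with hev
  · rw [← card_invol_fix hz hab hodd hsw hh hev, Nat.mul_sub_one, ← Finset.offDiag_card]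
    refine Finset.card_le_card fun p hp => ?_
    obtain ⟨-, h1, h2⟩ := hkey p hp
    obtain ⟨hp1, hne, -⟩ := Finset.mem_filter.1 hp
    obtain ⟨hx, hy⟩ := Finset.mem_product.1 hp1
    exact Finset.mem_offDiag.2 ⟨Finset.mem_filter.2 ⟨hx, h1⟩, Finset.mem_filter.2 ⟨hy, h2⟩, hne⟩
  · rw [Nat.le_zero, Finset.card_eq_zero, Finset.eq_empty_iff_forall_notMem]
    exact fun p hp => hev (hkey p hp).1

include hz hab hodd hsw hN in
theorem two_mul_card_sq_le {h : ℕ} (hh : Nat.card α = h + 1) :
    2 * ((invol (G := G)).card * (invol (G := G)).card) ≤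
      2 * (invol (G := G)).card + 2 * (fpfClasses (G := G) (α := α)).card * Nat.card G
      + 2 * (h + 1) * (if Even h then
          Nat.card (ZData.H2 (G := G) a b) * (Nat.card (ZData.H2 (G := G) a b) - 1) else 0)
      + (h + 1) * h * (Nat.card (ZData.H2 (G := G) a b) - 1) * Nat.card (ZData.H2 (G := G) a b) := by
  set e := Nat.card (ZData.H2 (G := G) a b) with he
  set T := invol (G := G) with hT
  set fib : G → Finset (G × G) := fun g => (T ×ˢ T).filter fun p => p.1 * p.2 = g with hfib
  have hsum : T.card * T.card = ∑ g : G, (fib g).card := by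
    rw [← Finset.card_product]
    exact Finset.card_eq_sum_card_fiberwise (fun p _ => Finset.mem_univ _)
  have hfib' : ∀ g, (fib g).card ≤ (T.filter fun x => x * g ∈ T).card := by
    intro g
    refine Finset.card_le_card_of_injOn (fun p => p.1) (fun p hp => ?_) (fun p hp q hq e => ?_)
    · simp only [hfib, Finset.mem_coe, Finset.mem_filter, Finset.mem_product] at hp ⊢
      obtain ⟨⟨hx, hy⟩, hxy⟩ := hp
      refine ⟨hx, ?_⟩
      rw [← hxy, ← mul_assoc, (mem_invol.1 hx).1, one_mul]
      exact hy
    · simp only [hfib, Finset.mem_coe, Finset.mem_filter] at hp hq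
      refine Prod.ext e ?_
      have h' := hp.2.trans hq.2.symm
      simp only at e
      rw [e] at h'
      exact mul_left_cancel h'
  -- split by the number of fixed points
  set S1 := univ.filter fun g : G => g = 1 with hS1
  set F0 := univ.filter fun g : G => fixF (α := α) g = ∅ with hF0
  set F1 := univ.filter fun g : G => g ≠ 1 ∧ (fixF (α := α) g).card = 1 with hF1
  set F2 := univ.filter fun g : G => g ≠ 1 ∧ (fixF (α := α) g).card = 2 with hF2
  have hcover : ∀ f : G → ℕ, ∑ g : G, f g ≤ ∑ g ∈ S1, f g + ∑ g ∈ F0, f g + ∑ g ∈ F1, f g + ∑ g ∈ F2, f g := by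
    intro f
    simp only [hS1, hF0, hF1, hF2, Finset.sum_filter, ← Finset.sum_add_distrib]
    refine Finset.sum_le_sum fun g _ => ?_
    by_cases hg : g = 1
    · simp [hg]
    · have h2 := card_fixF_le hz (α := α) hg
      by_cases h0 : fixF (α := α) g = ∅
      · simp [hg, h0]
      · have h1 : 0 < (fixF (α := α) g).card := Finset.card_pos.2 (Finset.nonempty_of_ne_empty h0)
        rcases (show (fixF (α := α) g).card = 1 ∨ (fixF (α := α) g).card = 2 by omega) with e | e <;>
          simp [hg, h0, e]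
  have h1 : ∑ g ∈ S1, (fib g).card ≤ T.card := by
    rw [hS1, Finset.filter_eq' univ (1 : G), if_pos (Finset.mem_univ _), Finset.sum_singleton]
    refine (hfib' 1).trans (Finset.card_filter_le _ _)
  have h0 : ∑ g ∈ F0, (fib g).card ≤ (fpfClasses (G := G) (α := α)).card * Nat.card G := by
    rw [← sum_centralizer_fpf (G := G) (α := α)]
    exact Finset.sum_le_sum fun g _ => (hfib' g).trans (card_fiber_le_centralizer g)
  have hF2card : 2 * F2.card ≤ (h + 1) * h * (e - 1) := by
    have e1 := Finset.sum_card_bipartiteAbove_eq_sum_card_bipartiteBelow (s := F2)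
      (t := (univ : Finset α).offDiag) (r := fun g p => g • p.1 = p.1 ∧ g • p.2 = p.2)
    simp only [Finset.bipartiteAbove, Finset.bipartiteBelow] at e1
    have hl : ∀ g ∈ F2, ((univ : Finset α).offDiag.filter fun p => g • p.1 = p.1 ∧ g • p.2 = p.2).card = 2 := by
      intro g hg
      have hg2 := (Finset.mem_filter.1 hg).2.2
      have : ((univ : Finset α).offDiag.filter fun p => g • p.1 = p.1 ∧ g • p.2 = p.2) =
          (fixF (α := α) g).offDiag := by ext p; simp [fixF]; tauto
      rw [this, Finset.offDiag_card, hg2]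
    have hr : ∀ p ∈ (univ : Finset α).offDiag,
        (F2.filter fun g => g • p.1 = p.1 ∧ g • p.2 = p.2).card ≤ e - 1 := by
      intro p hp
      have hpq := (Finset.mem_offDiag.1 hp).2.2
      rw [he, ← hz.card_H2_eq hab hpq, Nat.card_eq_fintype_card, Fintype.card_subtype,
        ← Finset.card_erase_of_mem (a := (1 : G)) (by simp)]
      refine Finset.card_le_card fun g hg => ?_
      simp only [hF2, Finset.mem_filter, Finset.mem_univ, true_and] at hg
      simp [hg.1.1, hg.2.1, hg.2.2, Subgroup.mem_inf, mem_stabilizer_iff]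
    rw [Finset.sum_congr rfl hl, Finset.sum_const, smul_eq_mul] at e1
    rw [mul_comm, e1]
    refine (Finset.sum_le_sum hr).trans ?_
    rw [Finset.sum_const, Finset.offDiag_card, Finset.card_univ, ← Nat.card_eq_fintype_card, hh,
      smul_eq_mul, show (h + 1) * (h + 1) - (h + 1) = (h + 1) * h by
        rw [Nat.mul_succ, Nat.add_sub_cancel]]
  have h2 : ∑ g ∈ F2, (fib g).card ≤ F2.card * e := by
    rw [← smul_eq_mul, ← Finset.sum_const]
    refine Finset.sum_le_sum fun g hg => (hfib' g).trans ?_
    obtain ⟨-, hg1, hg2⟩ := Finset.mem_filter.1 hg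
    exact card_fiber_two hz hab hodd hsw hg2 hg1
  -- one fixed point
  have h3 : ∑ g ∈ F1, (fib g).card ≤ (h + 1) * (if Even h then e * (e - 1) else 0) := by
    have hbound : ∀ c : α, (∑ g ∈ F1.filter (fun g => g • c = c), (fib g).card) ≤
        if Even h then e * (e - 1) else 0 := by
      intro c
      obtain ⟨d, hd⟩ : ∃ d, c ≠ d := by
        by_cases hca : c = a
        · exact ⟨b, hca ▸ hab⟩
        · exact ⟨a, hca⟩
      have hecd : Nat.card (ZData.H2 (G := G) c d) = e := hz.card_H2_eq hab hd
      obtain ⟨M, hM⟩ := hz.exists_kernel hd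
      have := card_pairs_fix hz hd (by rw [hecd]; exact hodd) hsw hM hh
      rw [hecd] at this
      refine le_trans ?_ this
      rw [← Finset.card_biUnion]
      · refine Finset.card_le_card fun p hp => ?_
        obtain ⟨g, hg, hpg⟩ := Finset.mem_biUnion.1 hp
        simp only [hF1, hfib, Finset.mem_filter, Finset.mem_univ, true_and] at hg hpg
        refine Finset.mem_filter.2 ⟨hpg.1, fun e' => hg.1.1 ?_, ?_⟩
        · rw [← hpg.2, e', (mem_invol.1 (Finset.mem_product.1 hpg.1).2).1]
        · rw [hpg.2]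
          refine (hz.mem_kernel_iff hM hd).2 ⟨hg.2, Or.inr fun y hy e' => hy ?_⟩
          exact Finset.card_le_one.1 hg.1.2.le y (mem_fixF.2 e') c (mem_fixF.2 hg.2)
      · intro g _ g' _ hgg
        exact Finset.disjoint_left.2 fun p hp hp' => hgg
          ((Finset.mem_filter.1 hp).2.symm.trans (Finset.mem_filter.1 hp').2)
    calc ∑ g ∈ F1, (fib g).card
        = ∑ g ∈ F1, ∑ c ∈ fixF (α := α) g, (fib g).card := Finset.sum_congr rfl fun g hg => by
          rw [Finset.sum_const, (Finset.mem_filter.1 hg).2.2, one_smul]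
      _ = ∑ c : α, ∑ g ∈ F1.filter (fun g => g • c = c), (fib g).card := by
          rw [Finset.sum_comm' (t' := univ) (s' := fun c => F1.filter fun g => g • c = c)]
          intro g c; simp [fixF]
      _ ≤ ∑ _c : α, if Even h then e * (e - 1) else 0 := Finset.sum_le_sum fun c _ => hbound c
      _ = _ := by rw [Finset.sum_const, Finset.card_univ, ← Nat.card_eq_fintype_card, hh, smul_eq_mul]
  have htot := hcover fun g => (fib g).card
  rw [← hsum] at htot
  calc 2 * (T.card * T.card)
      ≤ 2 * (∑ g ∈ S1, (fib g).card + ∑ g ∈ F0, (fib g).card + ∑ g ∈ F1, (fib g).card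
        + ∑ g ∈ F2, (fib g).card) := Nat.mul_le_mul_left 2 htot
    _ ≤ 2 * (T.card + (fpfClasses (G := G) (α := α)).card * Nat.card G
        + (h + 1) * (if Even h then e * (e - 1) else 0) + F2.card * e) := by
        exact Nat.mul_le_mul_left 2 (Nat.add_le_add (Nat.add_le_add (Nat.add_le_add h1 h0) h3) h2)
    _ ≤ _ := by
        have h4 := Nat.mul_le_mul_right e hF2card
        calc 2 * (T.card + (fpfClasses (G := G) (α := α)).card * Nat.card G
              + (h + 1) * (if Even h then e * (e - 1) else 0) + F2.card * e)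
            = 2 * T.card + 2 * (fpfClasses (G := G) (α := α)).card * Nat.card G
              + 2 * (h + 1) * (if Even h then e * (e - 1) else 0) + 2 * F2.card * e := by ring
          _ ≤ _ := Nat.add_le_add_left h4 _

include hz hab hodd hsw in
/-- There are at least `(e + 1) / 2` classes of fixed point free elements. -/
theorem half_le_fpfClasses {h : ℕ} (hh : Nat.card α = h + 1)
    (hlt : Nat.card (ZData.H2 (G := G) a b) + 1 < h) :
    Nat.card (ZData.H2 (G := G) a b) + 1 ≤ 2 * (fpfClasses (G := G) (α := α)).card := by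
  obtain ⟨N, hN⟩ := hz.exists_kernel hab
  have hmain := two_mul_card_sq_le hz hab hodd hsw hN hh
  rw [hz.card_group hab, hh, Nat.add_sub_cancel, card_invol hz hab hodd hsw hh] at hmain
  set e := Nat.card (ZData.H2 (G := G) a b) with he
  set K := (fpfClasses (G := G) (α := α)).card
  obtain ⟨k, hk⟩ := hodd
  rw [hk, show 2 * k + 1 - 1 = 2 * k by omega] at hmain
  rw [hk] at hlt ⊢
  have hzm : (2 : ℤ) * ((h : ℤ) + 1) > 0 := by positivity
  by_cases hev : Even h
  · simp only [if_pos hev] at hmain
    zify at hmain ⊢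
    have hpos : (0 : ℤ) < (2 * k + 1) * ((h : ℤ) + 1) * h := by
      have : (0 : ℤ) < h := by omega
      positivity
    by_contra hcon
    push Not at hcon
    nlinarith [mul_le_mul_of_nonneg_left (show (2 : ℤ) * K ≤ 2 * k + 1 + 1 - 1 by omega) hpos.le]
  · simp only [if_neg hev] at hmain
    zify at hmain ⊢
    by_contra hcon
    push Not at hcon
    have hKk : (K : ℤ) ≤ k := by omega
    have hpos : (0 : ℤ) < (2 * k + 1) * (h : ℤ) := by
      have : (0 : ℤ) < h := by omega
      positivity
    nlinarith [mul_le_mul_of_nonneg_left hKk (show (0 : ℤ) ≤ (2 * k + 1) * (h : ℤ) * (h + 1) by positivity)]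

end Cfsg.Agent.CharDeep.ZC

namespace Cfsg.Agent.CharDeep.ZC

open MulAction Finset
open scoped Classical

variable {G α : Type*} [Group G] [MulAction G α] [Fintype G] [Fintype α]

open PermB (ZData)

/-- The classes meeting a two point stabiliser outside the identity. -/
theorem half_le_twoPointClasses (hz : ZData G α) {a b : α} (hab : a ≠ b) (hsw : SwapInvol G α) :
    Nat.card (ZData.H2 (G := G) a b) - 1 ≤
      2 * (((univ.filter fun g : G => g ∈ ZData.H2 (G := G) a b).erase 1).image ConjClasses.mk).card := by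
  set E := (univ.filter fun g : G => g ∈ ZData.H2 (G := G) a b).erase 1 with hE
  have hEcard : E.card = Nat.card (ZData.H2 (G := G) a b) - 1 := by
    rw [hE, Finset.card_erase_of_mem (by simp), Nat.card_eq_fintype_card, Fintype.card_subtype]
  rw [← hEcard]
  refine Finset.card_le_mul_card_image E 2 fun C hC => ?_
  obtain ⟨x, hx, rfl⟩ := Finset.mem_image.1 hC
  simp only [hE, Finset.mem_erase, Finset.mem_filter, Finset.mem_univ, true_and] at hx
  refine le_trans (Finset.card_le_card ?_) (Finset.card_le_two (a := x) (b := x⁻¹))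
  intro y hy
  simp only [hE, Finset.mem_filter, Finset.mem_erase, Finset.mem_univ, true_and] at hy
  obtain ⟨g, hg⟩ := isConj_iff.1 (ConjClasses.mk_eq_mk_iff_isConj.1 hy.2.symm)
  rw [Finset.mem_insert, Finset.mem_singleton]
  obtain ⟨xa, xb⟩ := PermB.ZData.mem_H2.1 hx.2
  rcases CharDeep.swap_or_fix hz hab hx.2 hx.1 (hg ▸ hy.1.2) with ⟨h1, h2⟩ | ⟨h1, h2⟩
  · left
    obtain ⟨v, hv, hva, hvb⟩ := hz.exists_involution_swap hab
    have hvv := hsw hab hva hvb
    have key : ∀ z ∈ ZData.H2 (G := G) a b, v * z = z⁻¹ * v := by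
      intro z hzE
      obtain ⟨za, zb⟩ := PermB.ZData.mem_H2.1 hzE
      have e1 := hsw hab (g := v * z) (by rw [mul_smul, za, hva]) (by rw [mul_smul, zb, hvb])
      calc v * z = z⁻¹ * (z * (v * z * (v * z))) * z⁻¹ * v⁻¹ := by group
        _ = z⁻¹ * v := by rw [e1, mul_one, inv_eq_of_mul_eq_one_right hvv]; group
    have hgE : g ∈ ZData.H2 (G := G) a b := PermB.ZData.mem_H2.2 ⟨h1, h2⟩
    have c1 := key _ (mul_mem hgE hx.2)
    have c2 : v * (g * x) = g⁻¹ * x⁻¹ * v := by
      rw [← mul_assoc, key _ hgE, mul_assoc, key _ hx.2, ← mul_assoc]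
    rw [c1] at c2
    have c3 : g * x = x * g := by
      have := mul_right_cancel c2
      rw [← mul_inv_rev] at this
      exact inv_injective this
    rw [← hg, c3, mul_inv_cancel_right]
  · right
    have e1 := hsw hab h1 h2
    have e2 := hsw hab (g := g * x) (by rw [mul_smul, xa, h1]) (by rw [mul_smul, xb, h2])
    rw [← hg, inv_eq_of_mul_eq_one_right e1, eq_inv_iff_mul_eq_one]
    calc g * x * g * x = g * x * (g * x) := by group
      _ = 1 := e2

/-- At least `e` classes avoid the kernel. -/
theorem card_le_classes_avoiding (hz : ZData G α) {a b : α} (hab : a ≠ b)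
    (hodd : Odd (Nat.card (ZData.H2 (G := G) a b))) (hsw : SwapInvol G α) {N : Subgroup G}
    (hN : PermB.IsKernel N a) {h : ℕ} (hh : Nat.card α = h + 1)
    (hlt : Nat.card (ZData.H2 (G := G) a b) + 1 < h) :
    Nat.card (ZData.H2 (G := G) a b) ≤
      Nat.card {C : ConjClasses G // ∀ g : G, ConjClasses.mk g = C → g ∉ N} := by
  have h0 := half_le_fpfClasses hz hab hodd hsw hh hlt
  have h2 := half_le_twoPointClasses hz hab hsw
  set e := Nat.card (ZData.H2 (G := G) a b)
  set A := fpfClasses (G := G) (α := α)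
  set B := ((univ.filter fun g : G => g ∈ ZData.H2 (G := G) a b).erase 1).image ConjClasses.mk
  obtain ⟨k, hk⟩ := hodd
  have hcount : ∀ {C : ConjClasses G}, (C ∈ A → ∃ g, ConjClasses.mk g = C ∧ fixF (α := α) g = ∅) :=
    fun hC => by
      obtain ⟨g, hg, rfl⟩ := Finset.mem_image.1 hC
      exact ⟨g, rfl, (Finset.mem_filter.1 hg).2⟩
  have hconj : ∀ g x : G, ConjClasses.mk g = ConjClasses.mk x → ∀ p : α, g • p = p →
      ∃ c : G, x • c • p = c • p ∧ x = c * g * c⁻¹ := by
    intro g x hgx p hp
    obtain ⟨c, hc⟩ := isConj_iff.1 (ConjClasses.mk_eq_mk_iff_isConj.1 hgx)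
    exact ⟨c, by rw [← hc, mul_smul, inv_smul_smul, mul_smul, hp], hc.symm⟩
  have hdis : Disjoint A B := Finset.disjoint_left.2 fun C hA hB => by
    obtain ⟨g, rfl, hg⟩ := hcount hA
    obtain ⟨x, hx, hxg⟩ := Finset.mem_image.1 hB
    obtain ⟨-, hx⟩ := Finset.mem_erase.1 hx
    obtain ⟨c, hc, -⟩ := hconj x g hxg a (PermB.ZData.mem_H2.1 (Finset.mem_filter.1 hx).2).1
    exact Finset.notMem_empty _ (hg ▸ mem_fixF.2 hc)
  have havoid : ∀ C ∈ A ∪ B, ∀ g : G, ConjClasses.mk g = C → g ∉ N := by
    intro C hC g hgC hgN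
    have hga : g • a = a := hN.le hgN
    rcases Finset.mem_union.1 hC with hA | hB
    · obtain ⟨x, hx, hfx⟩ := hcount hA
      obtain ⟨c, hc, -⟩ := hconj g x (hgC.trans hx.symm) a hga
      exact Finset.notMem_empty _ (hfx ▸ mem_fixF.2 hc)
    · obtain ⟨x, hx, hxC⟩ := Finset.mem_image.1 hB
      obtain ⟨hx1, hx⟩ := Finset.mem_erase.1 hx
      obtain ⟨xa, xb⟩ := PermB.ZData.mem_H2.1 (Finset.mem_filter.1 hx).2
      obtain ⟨c, hcg, hce⟩ := hconj x g (hxC.trans hgC.symm) a xa
      have hcb : g • c • b = c • b := by rw [hce, mul_smul, inv_smul_smul, mul_smul, xb]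
      have hg1 : g ≠ 1 := fun e' => hx1 (conj_eq_one_iff.1 (hce.symm.trans e'))
      have hne : c • a ≠ c • b := fun e' => hab (MulAction.injective c e')
      by_cases hca : c • a = a
      · exact hg1 (hN.eq_one hgN (fun e' => hne (hca.trans e'.symm)) hcb)
      · exact hg1 (hN.eq_one hgN hca hcg)
  calc e ≤ (A ∪ B).card := by rw [Finset.card_union_of_disjoint hdis]; omega
    _ = Nat.card {C : ConjClasses G // C ∈ A ∪ B} := (Nat.card_eq_finsetCard _).symm
    _ ≤ _ := Nat.card_le_card_of_injective (fun C => ⟨C.1, havoid C.1 C.2⟩)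
          (fun C D e' => Subtype.ext (by simpa using congrArg Subtype.val e'))

end Cfsg.Agent.CharDeep.ZC
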