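import Mathlib
import Cfsg.Agent.CharDeep.ZassClasses
import Cfsg.Agent.CharInd.Induced
import Cfsg.Agent.CharInd.GenChar
import Cfsg.Agent.Char.Linear

/-!
Characters of a point stabiliser of a Zassenhaus group, induced to the group.
-/

set_option autoImplicit false
set_option linter.unusedSectionVars false

namespace Cfsg.Agent.CharDeep.ZC

open MulAction Finset
open scoped Classical ComplexConjugate

variable {G α : Type*} [Group G] [MulAction G α] [Fintype G] [Fintype α]

open PermB (ZData)

/-- An induced function from a point stabiliser as a sum over the points. -/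
theorem indFun_stabilizer_eq (a : α) (g : α → G) (hg : ∀ c, g c • a = c)
    {θ : stabilizer G a → ℂ} (hθ : Cfsg.IsClassFunction (stabilizer G a) θ) (x : G) :
    Cfsg.indFun (stabilizer G a) θ x =
      ∑ c : α, Cfsg.extendByZero (stabilizer G a) θ ((g c)⁻¹ * x * g c) := by
  let e : G ≃ α × stabilizer G a :=
    { toFun := fun y => (y • a, ⟨(g (y • a))⁻¹ * y, by
        rw [mem_stabilizer_iff, mul_smul, inv_smul_eq_iff, hg]⟩)
      invFun := fun p => g p.1 * p.2
      left_inv := fun y => by simp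
      right_inv := fun p => by
        have h1 : (g p.1 * (p.2 : G)) • a = p.1 := by
          rw [mul_smul, mem_stabilizer_iff.1 p.2.2, hg]
        refine Prod.ext h1 (Subtype.ext ?_)
        show (g ((g p.1 * (p.2 : G)) • a))⁻¹ * (g p.1 * (p.2 : G)) = p.2
        rw [h1, inv_mul_cancel_left] }
  rw [CharInd.indFun_apply, Fintype.sum_equiv e _
    (fun p => Cfsg.extendByZero (stabilizer G a) θ ((g p.1)⁻¹ * x * g p.1)) (fun y => ?_),
    Fintype.sum_prod_type]
  · simp only [Finset.sum_const, Finset.card_univ, nsmul_eq_mul, ← Finset.mul_sum]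
    rw [← Nat.card_eq_fintype_card, inv_mul_cancel_left₀ CharInd.natCard_ne_zero]
  · show _ = Cfsg.extendByZero (stabilizer G a) θ ((g (y • a))⁻¹ * x * g (y • a))
    set c := g (y • a)
    have hb : c⁻¹ * y ∈ stabilizer G a := by rw [mem_stabilizer_iff, mul_smul, inv_smul_eq_iff, hg]
    rw [← CharInd.extendByZero_conj_mem (stabilizer G a) hθ ((stabilizer G a).inv_mem hb) (c⁻¹ * x * c)]
    congr 1
    group

theorem sum_monoidHom_eq_zero {B : Type*} [Group B] [Fintype B] (f : B →* ℂˣ) (hf : f ≠ 1) :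
    ∑ b : B, (f b : ℂ) = 0 := by
  obtain ⟨y, hy⟩ : ∃ y, f y ≠ 1 := by
    by_contra h
    push Not at h
    exact hf (MonoidHom.ext h)
  have h1 : (f y : ℂ) * ∑ b : B, (f b : ℂ) = ∑ b : B, (f b : ℂ) := by
    rw [Finset.mul_sum]
    exact Fintype.sum_equiv (Equiv.mulLeft y) _ _ (fun b => by simp)
  by_contra h
  exact hy (Units.val_eq_one.1 ((mul_eq_right₀ h).1 h1))

variable (hz : ZData G α) {a b : α} (hab : a ≠ b)
  (hodd : Odd (Nat.card (ZData.H2 (G := G) a b))) (hsw : SwapInvol G α)
  {N : Subgroup G} (hN : PermB.IsKernel N a) (f : stabilizer G a →* ℂˣ)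
  (hfN : ∀ u : stabilizer G a, (u : G) ∈ N → f u = 1)

include hz hab hsw hN hfN in
/-- The values on the stabiliser of a character induced from a linear one. -/
theorem indFun_linear_apply (x : stabilizer G a) :
    Cfsg.indFun (stabilizer G a) (fun u => (f u : ℂ)) (x : G) =
      if x = 1 then (Nat.card α : ℂ) else if (x : G) ∈ N then 1 else (f x : ℂ) + conj (f x : ℂ) := by
  haveI := hz.isPretransitive
  choose g hg using fun c => IsPretransitive.exists_smul_eq (M := G) a c
  have hθ : Cfsg.IsClassFunction (stabilizer G a) (fun u => (f u : ℂ)) := fun u v => by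
    simp [mul_comm]
  rw [indFun_stabilizer_eq a g hg hθ]
  have hzero : ∀ c, (x : G) • c ≠ c →
      Cfsg.extendByZero (stabilizer G a) (fun u => (f u : ℂ)) ((g c)⁻¹ * x * g c) = 0 := by
    intro c hc
    refine CharInd.extendByZero_notMem _ _ fun h => hc ?_
    rwa [mem_stabilizer_iff, mul_smul, mul_smul, inv_smul_eq_iff, hg] at h
  rw [← Finset.sum_subset (Finset.subset_univ (fixF (α := α) (x : G)))
    (fun c _ hc => hzero c (fun e => hc (mem_fixF.2 e)))]
  have hga : g a ∈ stabilizer G a := hg a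
  have hterm_a : Cfsg.extendByZero (stabilizer G a) (fun u => (f u : ℂ)) ((g a)⁻¹ * x * g a) = (f x : ℂ) := by
    rw [show (g a)⁻¹ * (x : G) * g a = (g a)⁻¹ * x * ((g a)⁻¹)⁻¹ by group,
      CharInd.extendByZero_conj_mem _ hθ ((stabilizer G a).inv_mem hga), CharInd.extendByZero_coe]
  have hxa : a ∈ fixF (α := α) (x : G) := mem_fixF.2 x.2
  by_cases hx1 : x = 1
  · subst hx1
    rw [if_pos rfl, Subgroup.coe_one, fixF_one]
    simp only [mul_one, inv_mul_cancel, CharInd.extendByZero_mem _ _ (stabilizer G a).one_mem,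
      Finset.sum_const, Finset.card_univ, nsmul_eq_mul, ← Nat.card_eq_fintype_card]
    rw [show (⟨1, (stabilizer G a).one_mem⟩ : stabilizer G a) = 1 from rfl, map_one, Units.val_one,
      mul_one]
  rw [if_neg hx1]
  have hxG : (x : G) ≠ 1 := fun e => hx1 (Subtype.ext e)
  by_cases hxN : (x : G) ∈ N
  · rw [if_pos hxN]
    have : fixF (α := α) (x : G) = {a} := Finset.eq_singleton_iff_unique_mem.2
      ⟨hxa, fun c hc => by_contra fun hne => hxG (hN.eq_one hxN hne (mem_fixF.1 hc))⟩
    rw [this, Finset.sum_singleton, hterm_a, hfN x hxN, Units.val_one]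
  rw [if_neg hxN]
  obtain ⟨d, hda, hd⟩ : ∃ d, d ≠ a ∧ (x : G) • d = d := by
    by_contra hne
    push Not at hne
    exact hxN ((hz.mem_kernel_iff hN hab).2 ⟨x.2, Or.inr hne⟩)
  have hfix : fixF (α := α) (x : G) = {a, d} := by
    refine (Finset.eq_of_subset_of_card_le ?_ ?_).symm
    · intro c hc
      rcases Finset.mem_insert.1 hc with rfl | hc
      · exact hxa
      · rw [Finset.mem_singleton] at hc; subst hc; exact mem_fixF.2 hd
    · rw [Finset.card_pair hda.symm]; exact card_fixF_le hz hxG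
  rw [hfix, Finset.sum_pair hda.symm, hterm_a]
  congr 1
  obtain ⟨s, hs, hsa, hsd⟩ := hz.exists_involution_swap hda.symm
  have hss := hsw hda.symm hsa hsd
  have hinv : s⁻¹ * (x : G) * s = (x : G)⁻¹ := by
    have h1 := hsw hda.symm (g := s * x) (by rw [mul_smul, x.2, hsa]) (by rw [mul_smul, hd, hsd])
    rw [inv_eq_of_mul_eq_one_right hss, eq_inv_iff_mul_eq_one]
    calc s * (x : G) * s * x = s * x * (s * x) := by group
      _ = 1 := h1
  have hsg : s⁻¹ * g d ∈ stabilizer G a := by
    rw [mem_stabilizer_iff, mul_smul, hg, inv_smul_eq_iff, hsa]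
  rw [show (g d)⁻¹ * (x : G) * g d = (s⁻¹ * g d)⁻¹ * (s⁻¹ * x * s) * ((s⁻¹ * g d)⁻¹)⁻¹ by group,
    CharInd.extendByZero_conj_mem _ hθ ((stabilizer G a).inv_mem hsg), hinv,
    ← Subgroup.coe_inv, CharInd.extendByZero_coe, map_inv, Units.val_inv_eq_inv_val]
  refine Complex.inv_eq_conj (Complex.norm_eq_one_of_pow_eq_one (n := orderOf x) ?_ (orderOf_pos x).ne')
  rw [← Units.val_pow_eq_pow_val, ← map_pow, pow_orderOf_eq_one, map_one, Units.val_one]

include hz hab hodd hsw hN hfN in
/-- A nontrivial linear character trivial on the kernel induces to an irreducible character. -/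
theorem indFun_linear_irr (hf1 : f ≠ 1) :
    Cfsg.IsIrrCharacter G (Cfsg.indFun (stabilizer G a) (fun u => (f u : ℂ))) := by
  have hf2 : f * f ≠ 1 := by
    intro h
    apply hf1
    refine MonoidHom.ext fun x => ?_
    obtain ⟨u, hu, k, hk, hx⟩ := hN.exists_mul hab.symm (show (x : G) • a = a from x.2)
    have hka : k ∈ stabilizer G a := (PermB.ZData.mem_H2.1 hk).1
    have hxe : x = ⟨u, hN.le hu⟩ * ⟨k, hka⟩ := Subtype.ext hx
    rw [hxe, map_mul, hfN _ hu, one_mul, MonoidHom.one_apply]
    obtain ⟨j, hj⟩ := hodd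
    have h1 : f ⟨k, hka⟩ ^ (2 * j + 1) = 1 := by
      rw [← map_pow, ← hj]
      have : (⟨k, hka⟩ : stabilizer G a) ^ Nat.card (ZData.H2 (G := G) a b) = 1 := by
        refine Subtype.ext ?_
        rw [Subgroup.coe_pow]
        exact orderOf_dvd_iff_pow_eq_one.1 (Subgroup.orderOf_dvd_natCard _ hk)
      rw [this, map_one]
    have h2 : f ⟨k, hka⟩ ^ 2 = 1 := by
      rw [sq]; exact DFunLike.congr_fun h _
    rwa [pow_succ, pow_mul, h2, one_pow, one_mul] at h1
  refine Char.isIrrCharacter_iff_classInner.mpr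
    ⟨CharInd.isCharacter_indFun _ (Char.isCharacter_of_irr (Char.isIrrCharacter_monoidHom f)), ?_⟩
  rw [CharInd.classInner_indFun_left _ _ (CharInd.indFun_isClassFunction _ _)]
  simp only [Cfsg.classInner, indFun_linear_apply hz hab hsw hN f hfN]
  rw [inv_mul_eq_iff_eq_mul₀ CharInd.natCard_ne_zero, mul_one]
  have hnorm : ∀ x : (stabilizer G a), (f x : ℂ) * conj (f x : ℂ) = 1 := fun x => by
    have h1 : ‖(f x : ℂ)‖ = 1 := Complex.norm_eq_one_of_pow_eq_one (n := orderOf x)
      (by rw [← Units.val_pow_eq_pow_val, ← map_pow, pow_orderOf_eq_one, map_one, Units.val_one])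
      (orderOf_pos x).ne'
    rw [Complex.mul_conj', h1]; simp
  have hpt : ∀ x : (stabilizer G a),
      (f x : ℂ) * conj (if x = 1 then (Nat.card α : ℂ) else if (x : G) ∈ N then 1
        else (f x : ℂ) + conj (f x : ℂ))
      = ((f * f) x : ℂ) + 1 + (if (x : G) ∈ N then (-1 : ℂ) else 0)
        + (if x = 1 then (Nat.card α : ℂ) - 1 else 0) := by
    intro x
    by_cases hx1 : x = 1
    · subst hx1
      simp [N.one_mem]
    · rw [if_neg hx1, if_neg hx1]
      by_cases hxN : (x : G) ∈ N
      · rw [if_pos hxN, if_pos hxN, MonoidHom.mul_apply, hfN x hxN]; simp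
      · rw [if_neg hxN, if_neg hxN, map_add, Complex.conj_conj, mul_add, hnorm]
        simp; ring
  rw [Finset.sum_congr rfl fun x _ => hpt x, Finset.sum_add_distrib, Finset.sum_add_distrib,
    Finset.sum_add_distrib, sum_monoidHom_eq_zero _ hf2, Finset.sum_ite_eq',
    if_pos (Finset.mem_univ _), ← Finset.sum_filter, Finset.sum_const, Finset.sum_const,
    Finset.card_univ]
  have hcard : (univ.filter fun x : (stabilizer G a) => (x : G) ∈ N).card = Nat.card N := by
    rw [← Fintype.card_subtype, ← Nat.card_eq_fintype_card]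
    exact Nat.card_congr
      { toFun := fun x => ⟨x.1.1, x.2⟩
        invFun := fun u => ⟨⟨u.1, hN.le u.2⟩, u.2⟩
        left_inv := fun x => rfl
        right_inv := fun u => rfl }
  rw [hcard, ← hN.card_add_one hab.symm, ← Nat.card_eq_fintype_card (α := (stabilizer G a))]
  push_cast
  simp only [nsmul_eq_mul, mul_one, mul_neg]
  ring

end Cfsg.Agent.CharDeep.ZC
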