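import Cfsg.Agent.CharDeep.ZassPSL
import Cfsg.Agent.PermB.ZassFrobenius
import Cfsg.Agent.PermB.ZassPrelude
import Cfsg.Agent.Zassenhaus.Normal
import Cfsg.Agent.Zassenhaus.Even
import Cfsg.Agent.S0885

/-!
Zassenhaus groups with abelian kernel.
-/

set_option autoImplicit false
set_option linter.unusedSectionVars false

namespace Cfsg.Agent.CharDeep.ZA

open MulAction
open Cfsg.Agent.PermB (ZData IsKernel)

variable {G Ω : Type*} [Group G] [MulAction G Ω] [Finite G] [Finite Ω]

theorem card_H2_dvd (hz : ZData G Ω) {N : Subgroup G} {a b : Ω} (hN : IsKernel N a) (hab : a ≠ b) :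
    Nat.card (ZData.H2 (G := G) a b) ∣ Nat.card Ω - 2 := by
  classical
  haveI : Fintype G := Fintype.ofFinite G
  have hdvd := hN.dvd_card_invariant hz hab.symm ((Finset.univ.filter fun u => u ∈ N).erase 1)
    (fun u hu => by simpa [and_comm] using hu)
    (fun x hx u hu => by
      simp only [Finset.mem_erase, Finset.mem_filter, Finset.mem_univ, true_and] at hu ⊢
      refine ⟨fun e => hu.1 ?_, hN.conj x (ZData.mem_H2.1 hx).1 u hu.2⟩
      rw [show u = x⁻¹ * (x * u * x⁻¹) * x by group, e]; group)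
  have hc := hN.card_add_one hab.symm
  rwa [Finset.card_erase_of_mem (by simp), ← Fintype.card_subtype, ← Nat.card_eq_fintype_card,
    show Nat.card {u // u ∈ N} - 1 = Nat.card Ω - 2 by omega] at hdvd

theorem kernel_small (hZ : Cfsg.IsZassenhausGroup G Ω) {N : Subgroup G} {a b : Ω}
    (hN : IsKernel N a) (hab : a ≠ b) (hNc : IsMulCommutative N) :
    Nat.card Ω - 2 ≤ 2 * Nat.card (ZData.H2 (G := G) a b) := by
  have hz := PermB.zData_of_isZassenhausGroup hZ
  have h3 := PermB.three_le_card_of_isZassenhausGroup hZ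
  rcases Nat.even_or_odd (Nat.card (ZData.H2 (G := G) a b)) with hd | hd
  · exact hz.card_sub_two_le_two_mul hab h3 hd
  · letI := Fintype.ofFinite Ω
    have hΩ : Fintype.card Ω = Nat.card Ω := Fintype.card_eq_nat_card
    have hc := hN.card_add_one hab.symm
    rcases Cfsg.Agent.S0885.result hZ hab (Nat.card N) _ (by omega) rfl hd N hN.le (by omega)
      (fun u hu hu1 c hc => by_contra fun hne => hu1 (hN.eq_one hu hne hc)) with
      h | ⟨-, ⟨u, v, huv⟩, -⟩
    · have e : Nat.card ↥(stabilizer G a ⊓ stabilizer G b : Subgroup G) =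
        Nat.card (ZData.H2 (G := G) a b) := rfl
      omega
    · exact absurd (hNc.is_comm.comm u v) huv

theorem sharp_of_card (hZ : Cfsg.IsZassenhausGroup G Ω) {a b : Ω} (hab : a ≠ b)
    (hd : Nat.card (ZData.H2 (G := G) a b) + 2 = Nat.card Ω) :
    IsMultiplyPretransitive G Ω 3 ∧ ∀ t : Fin 3 ↪ Ω, stabilizer G t = ⊥ := by
  classical
  have hz := PermB.zData_of_isZassenhausGroup hZ
  have hst : ∀ t : Fin 3 ↪ Ω, stabilizer G t = ⊥ := by
    intro t
    rw [Subgroup.eq_bot_iff_forall]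
    intro g hg
    have h : ∀ i, g • t i = t i := fun i => by
      have := DFunLike.congr_fun (mem_stabilizer_iff.1 hg) i
      simpa using this
    exact hz.three g (t.injective.ne (by decide : (0 : Fin 3) ≠ 1))
      (t.injective.ne (by decide : (1 : Fin 3) ≠ 2)) (t.injective.ne (by decide : (0 : Fin 3) ≠ 2))
      (h 0) (h 1) (h 2)
  refine ⟨⟨fun s t => ?_⟩, hst⟩
  haveI : Fintype Ω := Fintype.ofFinite Ω
  have hbij : Function.Bijective (fun g : G => g • s) := by
    rw [Nat.bijective_iff_injective_and_card]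
    refine ⟨fun g k e => ?_, ?_⟩
    · have : k⁻¹ * g ∈ stabilizer G s := by
        rw [mem_stabilizer_iff, mul_smul, inv_smul_eq_iff]; exact e
      rw [hst s, Subgroup.mem_bot, inv_mul_eq_one] at this
      exact this.symm
    · rw [hz.card_group hab, Nat.card_eq_fintype_card (α := Fin 3 ↪ Ω), Fintype.card_embedding_eq,
        Fintype.card_fin, ← Nat.card_eq_fintype_card]
      obtain ⟨m, hm⟩ : ∃ m, Nat.card Ω = m + 2 := ⟨_, hd.symm⟩
      have hm' : Nat.card (ZData.H2 (G := G) a b) = m := by omega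
      rw [hm', hm]
      simp [Nat.descFactorial_succ, Nat.succ_eq_add_one]
      ring
  exact hbij.2 t

theorem isSimple_of_half (hZ : Cfsg.IsZassenhausGroup G Ω) {N : Subgroup G} {a b : Ω}
    (hN : IsKernel N a) (hab : a ≠ b) (hNc : IsMulCommutative N)
    (hd : 2 * Nat.card (ZData.H2 (G := G) a b) + 2 = Nat.card Ω) : IsSimpleGroup G := by
  have hz := PermB.zData_of_isZassenhausGroup hZ
  haveI : Nontrivial G := by
    obtain ⟨g, hg, -⟩ := hZ.2.2.2.1
    exact ⟨⟨g, 1, hg⟩⟩
  refine ⟨fun M hMn => or_iff_not_imp_left.2 fun hM1 => ?_⟩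
  haveI := hMn
  have hZM := Zassenhaus.normal_isZassenhaus hZ M hM1
  have hzM := PermB.zData_of_isZassenhausGroup hZM
  obtain ⟨NM, hNM⟩ := hzM.exists_kernel hab
  have hsub : ∀ u ∈ NM, ((u : M) : G) ∈ N := by
    intro u hu
    obtain ⟨hua, hu'⟩ := (hzM.mem_kernel_iff hNM hab).1 hu
    refine (hz.mem_kernel_iff hN hab).2 ⟨hua, ?_⟩
    rcases hu' with rfl | h
    · exact Or.inl rfl
    · exact Or.inr h
  have hNMc : IsMulCommutative NM := ⟨⟨fun u v => Subtype.ext (Subtype.ext
    (congrArg Subtype.val (hNc.is_comm.comm ⟨_, hsub u u.2⟩ ⟨_, hsub v v.2⟩) :))⟩⟩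
  have h1 := kernel_small hZM hNM hab hNMc
  let f : ZData.H2 (G := M) a b →* ZData.H2 (G := G) a b :=
    { toFun := fun x => ⟨((x : M) : G), x.2⟩
      map_one' := rfl
      map_mul' := fun _ _ => rfl }
  have hdvd := Subgroup.card_dvd_of_injective f fun x y e => Subtype.ext (Subtype.ext
    (congrArg (fun t : ZData.H2 (G := G) a b => (t : G)) e))
  have h2 := Nat.le_of_dvd Nat.card_pos hdvd
  apply Subgroup.eq_top_of_card_eq
  rw [hz.card_group hab, hzM.card_group hab]
  congr 2
  omega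

theorem abelian_kernel (hZ : Cfsg.IsZassenhausGroup G Ω) {N : Subgroup G} {a b : Ω}
    (hN : IsKernel N a) (hab : a ≠ b) (hNc : IsMulCommutative N) :
    (IsMultiplyPretransitive G Ω 3 ∧ ∀ t : Fin 3 ↪ Ω, stabilizer G t = ⊥) ∨
      ∃ (K : Type) (_ : Field K) (_ : Fintype K), ringChar K ≠ 2 ∧ Fintype.card K + 1 = Nat.card Ω ∧
        Nonempty (G ≃* Matrix.ProjectiveSpecialLinearGroup (Fin 2) K) := by
  classical
  have hz := PermB.zData_of_isZassenhausGroup hZ
  have h3 := PermB.three_le_card_of_isZassenhausGroup hZ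
  have h1 := kernel_small hZ hN hab hNc
  obtain ⟨k, hk⟩ := card_H2_dvd hz hN hab
  have hdpos : 0 < Nat.card (ZData.H2 (G := G) a b) := Nat.card_pos
  have hk12 : k = 1 ∨ k = 2 := by
    rcases k with _ | _ | _ | k
    · omega
    · exact Or.inl rfl
    · exact Or.inr rfl
    · exfalso
      rw [hk] at h1
      nlinarith
  rcases hk12 with rfl | rfl
  · exact Or.inl (sharp_of_card hZ hab (by omega))
  right
  have hd : 2 * Nat.card (ZData.H2 (G := G) a b) + 2 = Nat.card Ω := by omega
  haveI := isSimple_of_half hZ hN hab hNc hd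
  obtain ⟨hcyc, v, hv, hva, hvb, hinv⟩ := Zassenhaus.isCyclic_H2 hZ hab
  rcases Nat.even_or_odd (Nat.card (ZData.H2 (G := G) a b)) with he | ho
  · obtain ⟨t, htH, htt, ht1⟩ := ZData.exists_involution_H2 he
    obtain ⟨c, hc⟩ : ∃ c : Ω, t • c ≠ c := by
      by_contra hne
      push Not at hne
      exact ht1 (hz.faithful t hne)
    obtain ⟨g, hgc, hgd⟩ := hz.two (c := a) (d := b) (Ne.symm hc) hab
    have hca : g⁻¹ • a = c := by rw [← hgc, inv_smul_smul]
    have hcb : g⁻¹ • b = t • c := by rw [← hgd, inv_smul_smul]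
    set s := g * t * g⁻¹ with hs
    have htc : t • t • c = c := by rw [← mul_smul, htt, one_smul]
    have hsa : s • a = b := by rw [hs, mul_smul, mul_smul, hca, hgd]
    have hsb : s • b = a := by rw [hs, mul_smul, mul_smul, hcb, htc, hgc]
    have hta : t • a = a := (ZData.mem_H2.1 htH).1
    have hsc : s • g • a = g • a := by rw [hs, mul_smul, inv_smul_smul, mul_smul, hta]
    have hga : g • a ≠ a := fun e => by
      rw [e] at hsc; exact hab (hsc.symm.trans hsa)
    have hgb : g • a ≠ b := fun e => by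
      rw [e] at hsc; exact hab (hsb.symm.trans hsc)
    have hvv : v * v = 1 := by rw [← pow_two, ← hv, pow_orderOf_eq_one]
    have hvs : v * s ∈ ZData.H2 (G := G) a b := ZData.mem_H2.2
      ⟨by rw [mul_smul, hsa, hvb], by rw [mul_smul, hsb, hva]⟩
    have hsinv : ∀ k ∈ ZData.H2 (G := G) a b, s * k * s⁻¹ = k⁻¹ := by
      intro k hk
      haveI := hcyc
      letI := IsCyclic.commGroup (α := ZData.H2 (G := G) a b)
      have hcm : (v * s) * k = k * (v * s) :=
        congrArg Subtype.val (mul_comm (⟨v * s, hvs⟩ : ZData.H2 (G := G) a b) ⟨k, hk⟩)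
      calc s * k * s⁻¹ = v⁻¹ * ((v * s) * k) * s⁻¹ := by group
        _ = v⁻¹ * k * v := by rw [hcm]; group
        _ = v * k * v⁻¹ := by rw [inv_eq_of_mul_eq_one_right hvv]
        _ = k⁻¹ := hinv k hk
    obtain ⟨K, iK, iF, hcard, hchar, e⟩ :=
      PermB.exists_mulEquiv_psl hz hN hab hga hgb hNc hsa hsb hsc hsinv hd he
    exact ⟨K, iK, iF, hchar, hcard, e⟩
  · have hvv : v * v = 1 := by rw [← pow_two, ← hv, pow_orderOf_eq_one]
    have hv1 : v ≠ 1 := fun e => by rw [e, orderOf_one] at hv; omega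
    obtain ⟨K, iK, iF, hcard, hchar, e⟩ := exists_mulEquiv_psl_odd_half hz hN hab.symm hNc hvv hv1
      hva hvb hinv rfl hd.symm ho
    exact ⟨K, iK, iF, hchar, hcard, e⟩

end Cfsg.Agent.CharDeep.ZA
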