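import Cfsg.Agent.PermB.Recognition
import Cfsg.Agent.PermB.ZassCount
import Cfsg.Agent.Linear.SmallIso

/-!
Recognition of `PSL(2, q)`, `q ≡ 3 mod 4`, from a Zassenhaus type action on `q + 1` points with
inverted two point stabiliser.
-/

set_option autoImplicit false
set_option linter.unusedSectionVars false

namespace Cfsg.Agent.CharDeep

open Subgroup MulAction Cfsg.Agent.PermB
open scoped OnePoint MatrixGroups

variable {G Ω : Type*} [Group G] [MulAction G Ω]

/-- Half two point stabiliser of odd order, inverted: `PSL(2, K)`. -/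
theorem exists_mulEquiv_psl_odd_half [Finite Ω] [Finite G] (hz : ZData G Ω) {N : Subgroup G}
    {P Q : Ω} (hN : IsKernel N P) (hQ : Q ≠ P) (hNc : IsMulCommutative N) {t : G}
    (htt : t * t = 1) (ht1 : t ≠ 1) (hsa : t • P = Q) (hsb : t • Q = P)
    (hinv : ∀ h ∈ ZData.H2 (G := G) P Q, t * h * t⁻¹ = h⁻¹) {d : ℕ}
    (hH : Nat.card (ZData.H2 (G := G) P Q) = d) (hn : Nat.card Ω = 2 * d + 2) (hodd : Odd d) :
    ∃ (K : Type) (_ : Field K) (_ : Fintype K), Fintype.card K + 1 = Nat.card Ω ∧
      ringChar K ≠ 2 ∧ Nonempty (G ≃* Matrix.ProjectiveSpecialLinearGroup (Fin 2) K) := by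
  classical
  have hd0 : 0 < d := hH ▸ Nat.card_pos
  have hto : orderOf t = 2 := orderOf_eq_prime (by rw [pow_two]; exact htt) ht1
  have hti : t⁻¹ = t := inv_eq_of_mul_eq_one_right htt
  have hnofix : ∀ x : Ω, t • x ≠ x := by
    intro x hx
    obtain ⟨hle, hpar⟩ := hz.card_fixedBy_involution htt ht1
    have hpos : 0 < Nat.card (fixedBy (Ω) t) := by
      have : Nonempty (fixedBy (Ω) t) := ⟨⟨x, hx⟩⟩
      exact Nat.card_pos
    have heq : Nat.card (fixedBy (Ω) t) = 2 := by
      rw [hn] at hpar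
      omega
    obtain ⟨u, v, huv, -⟩ := Nat.card_eq_two_iff.mp heq
    have hmem : t ∈ ZData.H2 (G := G) u.1 v.1 := ⟨u.2, v.2⟩
    have h2 := Subgroup.orderOf_dvd_natCard _ hmem
    rw [hto, hz.card_H2_eq hQ.symm (fun h => huv (Subtype.ext h)), hH] at h2
    obtain ⟨k, hk⟩ := hodd
    omega
  obtain ⟨c, hcP, hcQ⟩ := exists_ne_ne (α := Ω) (by rw [hn]; omega) P Q
  have hHc := isMulCommutative_of_inverted hinv
  obtain ⟨K, iK, iF, e, χ, hea, heb, hec, hK, hχ, hact, htr⟩ :=
    exists_coordinates hz hN hQ.symm hcP hcQ hNc hHc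
      (fun M hM hMi => hN.irreducible hz hQ (by rw [hn, hH]; omega) M hM hMi)
  have hKp : Fintype.card K = 2 * d + 1 := by omega
  let φ : G →* Equiv.Perm (OnePoint K) :=
    (e.permCongrHom.toMonoidHom).comp (MulAction.toPermHom G Ω)
  have hφ' : ∀ (g : G) (y : Ω), φ g (e y) = e (g • y) := fun g y => by
    show e (g • e.symm (e y)) = _
    rw [Equiv.symm_apply_apply]
  have hφinj : Function.Injective φ := by
    rw [injective_iff_map_eq_one]
    intro g hg
    exact hz.faithful g fun y => e.injective (by rw [← hφ', hg]; rfl)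
  have hsymm : ∀ h : ↥(ZData.H2 (G := G) P Q), φ h = Mobius.affPerm (χ h) 0 := fun h =>
    Equiv.ext fun x => by obtain ⟨y, rfl⟩ := e.surjective x; rw [hφ', hact]
  -- the range of `χ` is the group of squares
  have hKu : Nat.card Kˣ = 2 * d := by
    rw [Nat.card_units, Nat.card_eq_fintype_card, hKp]; omega
  have hSc : Nat.card χ.range = d := (Nat.card_congr (MonoidHom.ofInjective hχ).toEquiv).symm.trans hH
  have hidx : χ.range.index = 2 := by
    have h := Subgroup.card_mul_index χ.range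
    rw [hSc, hKu, mul_comm 2 d] at h
    exact Nat.eq_of_mul_eq_mul_left (by rw [← hH]; exact Nat.card_pos) h
  have hsq : ∀ u ∈ χ.range, IsSquare ((u : Kˣ) : K) := by
    intro u hu
    obtain ⟨k, hk⟩ := hodd
    have h1 : u ^ d = 1 := by
      rw [← hSc]
      exact congrArg Subtype.val (pow_card_eq_one' (x := (⟨u, hu⟩ : χ.range)))
    refine ⟨((u ^ (k + 1) : Kˣ) : K), ?_⟩
    rw [← Units.val_mul, ← pow_add, show k + 1 + (k + 1) = d + 1 by omega, pow_succ, h1, one_mul]
  have hneg : (-1 : Kˣ) ∉ χ.range := by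
    intro hm
    have h1 := Subgroup.orderOf_dvd_natCard _ hm
    have h2 : orderOf (-1 : Kˣ) = 2 := by
      refine orderOf_eq_prime (by simp) fun h => ?_
      have h2 : (-1 : K) = 1 := by simpa using congrArg (fun z : Kˣ => (z : K)) h
      have h3 : ringChar K = 2 := by
        by_contra hne
        exact (Ring.neg_one_ne_one_of_char_ne_two hne) h2
      have := FiniteField.even_card_iff_char_two.1 h3
      omega
    rw [h2, hSc] at h1
    obtain ⟨k, hk⟩ := hodd
    omega
  have hs1 : φ t ∞ = ((0 : K) : OnePoint K) := by rw [← hea, hφ', hsa, heb]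
  have hs0 : φ t ((0 : K) : OnePoint K) = ∞ := by rw [← heb, hφ', hsb, hea]
  obtain ⟨k, hk⟩ : ∃ k : Kˣ, φ t ((1 : K) : OnePoint K) = (((k : Kˣ) : K) : OnePoint K) := by
    rcases h : φ t ((1 : K) : OnePoint K) with _ | z
    · exact absurd (OnePoint.coe_eq_coe.1 ((φ t).injective (h.trans hs0.symm))) one_ne_zero
    · refine ⟨Units.mk0 z fun e' => ?_, rfl⟩
      subst e'
      exact OnePoint.coe_ne_infty (1 : K) ((φ t).injective (h.trans hs1.symm))
  -- `t` sends `u` to `k / u` on the squares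
  have htS : ∀ h : ↥(ZData.H2 (G := G) P Q),
      φ t (((χ h : Kˣ) : K) : OnePoint K) = (((((χ h)⁻¹ * k : Kˣ)) : K) : OnePoint K) := by
    intro h
    have e1 : (((χ h : Kˣ) : K) : OnePoint K) = φ h ((1 : K) : OnePoint K) := by
      rw [hsymm, Mobius.affPerm_coe]; simp
    have e2 : t * (h : G) = ((h⁻¹ : ↥(ZData.H2 (G := G) P Q)) : G) * t := by
      rw [Subgroup.coe_inv, ← hinv h h.2]; group
    rw [e1, ← Equiv.Perm.mul_apply, ← map_mul, e2, map_mul, Equiv.Perm.mul_apply, hk, hsymm,
      Mobius.affPerm_coe, map_inv]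
    simp
  have hk' : k ∉ χ.range := by
    intro hm
    obtain ⟨j, hj⟩ := hodd
    have h1 : k ^ d = 1 := by
      rw [← hSc]
      exact congrArg Subtype.val (pow_card_eq_one' (x := (⟨k, hm⟩ : χ.range)))
    obtain ⟨h, hh⟩ := pow_mem hm (j + 1)
    have h2 := htS h
    rw [hh] at h2
    have h3 : (k ^ (j + 1))⁻¹ * k = k ^ (j + 1) := by
      rw [inv_mul_eq_iff_eq_mul, ← pow_add, show j + 1 + (j + 1) = d + 1 by omega, pow_succ, h1, one_mul]
    rw [h3] at h2
    obtain ⟨y, hy⟩ := e.surjective (((k ^ (j + 1) : Kˣ) : K) : OnePoint K)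
    rw [← hy, hφ'] at h2
    exact hnofix y (e.injective h2)
  have htt' : φ t * φ t = 1 := by rw [← map_mul, htt, map_one]
  have htall : φ t = Mobius.affPerm k 0 * Mobius.invPerm := by
    refine Equiv.ext fun x => ?_
    rw [Equiv.Perm.mul_apply]
    cases x with
    | infty => rw [hs1, Mobius.invPerm_infty, Mobius.affPerm_coe]; simp
    | coe y =>
      rw [Mobius.invPerm_coe]
      by_cases hy : y = 0
      · subst hy; rw [if_pos rfl, hs0, Mobius.affPerm_infty]
      · rw [if_neg hy, Mobius.affPerm_coe, add_zero]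
        by_cases hyS : Units.mk0 y hy ∈ χ.range
        · obtain ⟨h, hh⟩ := hyS
          have h1 := htS h
          rw [hh] at h1
          simpa [Units.val_inv_eq_inv_val, mul_comm] using h1
        · obtain ⟨h, hh⟩ : k * (Units.mk0 y hy)⁻¹ ∈ χ.range := by
            rw [Subgroup.mul_mem_iff_of_index_two hidx, inv_mem_iff]
            tauto
          have h1 := congrArg (φ t) (htS h)
          rw [← Equiv.Perm.mul_apply, htt', hh] at h1
          simp only [mul_inv_rev, inv_inv, inv_mul_cancel_right, Units.val_mk0, Equiv.Perm.coe_one,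
            id_eq, Units.val_mul, Units.val_inv_eq_inv_val] at h1
          exact h1.symm
  set R := (Mobius.pslPerm (K := K)).range with hR
  have hstab : ∀ g : G, φ g ∞ = ∞ → φ g ∈ R := by
    intro g hg
    have hga : g • P = P := e.injective (by rw [← hφ', hea, hg])
    rcases hv : φ g ((0 : K) : OnePoint K) with _ | v
    · exact absurd ((φ g).injective (hv.trans hg.symm)) (OnePoint.coe_ne_infty (0 : K))
    obtain ⟨τ, hτa, hτ⟩ := htr v
    have hτ' : φ τ = Mobius.affPerm 1 v := Equiv.ext fun x => by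
      obtain ⟨y, rfl⟩ := e.surjective x; rw [hφ', hτ]
    have hmem : τ⁻¹ * g ∈ ZData.H2 (G := G) P Q := by
      refine ⟨?_, ?_⟩ <;> apply e.injective <;>
        rw [← hφ', map_mul, map_inv, Equiv.Perm.mul_apply, Equiv.Perm.inv_eq_iff_eq, hτ']
      · rw [hea, hg, Mobius.affPerm_infty]
      · rw [heb, hv, Mobius.affPerm_coe]; simp; rfl
    have e1 : φ g = φ τ * φ (τ⁻¹ * g) := by rw [← map_mul, mul_inv_cancel_left]
    rw [e1, hτ', hsymm ⟨_, hmem⟩]
    exact R.mul_mem (Mobius.affPerm_mem_psl _ v (by simp)) (Mobius.affPerm_mem_psl _ 0 (hsq _ ⟨_, rfl⟩))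
  have htR : φ t ∈ R := by
    have hkk : IsSquare (-((k : Kˣ) : K)) := by
      have := hsq (-1 * k) (by rw [Subgroup.mul_mem_iff_of_index_two hidx]; tauto)
      simpa using this
    rw [htall, Mobius.affPerm, Mobius.invPerm, ← map_mul]
    obtain ⟨π, hπ⟩ := Mobius.mem_psl (K := K) (M := !![(0 : K), (k : K); 1, 0])
      (by simp [Matrix.det_fin_two]) (by simpa [Matrix.det_fin_two] using hkk)
    refine ⟨π, hπ.trans ?_⟩
    congr 1
    apply Units.ext
    simp [Matrix.GeneralLinearGroup.mkOfDetNeZero]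
  have hle : φ.range ≤ R := by
    rintro _ ⟨g, rfl⟩
    rcases hv : φ g ∞ with _ | v
    · exact hstab g hv
    · obtain ⟨τ, -, hτ⟩ := htr (-v)
      have hτ' : φ τ = Mobius.affPerm 1 (-v) := Equiv.ext fun x => by
        obtain ⟨y, rfl⟩ := e.surjective x; rw [hφ', hτ]
      have h1 : φ (t * τ * g) ∞ = ∞ := by
        rw [map_mul, map_mul, Equiv.Perm.mul_apply, Equiv.Perm.mul_apply, hv, hτ']
        show φ t (Mobius.affPerm 1 (-v) (v : OnePoint K)) = ∞
        rw [Mobius.affPerm_coe]
        simpa using hs0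
      have h2 := hstab _ h1
      rw [map_mul, map_mul, hτ'] at h2
      exact (R.mul_mem_cancel_left (R.mul_mem htR (Mobius.affPerm_mem_psl _ _ (by simp)))).1 h2
  have hodd' : Odd (Fintype.card K) := by rw [hKp]; exact ⟨d, rfl⟩
  have hcard := hz.card_group hQ.symm
  rw [hn, hH, show 2 * d + 2 - 1 = 2 * d + 1 by omega] at hcard
  have heq : φ.range = R := Subgroup.eq_of_le_of_card_ge hle (by
    rw [hR, ← Nat.card_congr (MonoidHom.ofInjective Mobius.pslPerm_injective).toEquiv,
      ← Nat.card_congr (MonoidHom.ofInjective hφinj).toEquiv, hcard]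
    have h := Linear.card_PSL_two_of_odd (F := K) hodd'
    rw [hKp, show 2 * d + 1 - 1 = 2 * d by omega] at h
    nlinarith)
  refine ⟨K, iK, iF, by omega, fun hc => ?_, ⟨((MonoidHom.ofInjective hφinj).trans
    (MulEquiv.subgroupCongr heq)).trans (MonoidHom.ofInjective Mobius.pslPerm_injective).symm⟩⟩
  have := FiniteField.even_card_iff_char_two.1 hc
  omega

end Cfsg.Agent.CharDeep
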